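import Groth.Agent.Dual3RHom.Reflect
import Groth.Agent.KFlat.RHomApprox
import Groth.Agent.KFlat.RHomExists
import Groth.Prelude.Def_DCoh3

/-!
The right adjoint of `Ri_*` on `D_QCoh` for a closed immersion is `R Hom(O_Z, -)`.
-/

set_option autoImplicit false

universe u

open CategoryTheory CategoryTheory.Limits AlgebraicGeometry Opposite
open Groth.Agent.KFlat

attribute [local instance] HasDerivedCategory.standard

noncomputable section

namespace Groth.Agent.Dual3RHom.AdjQ

variable {Z X : Scheme.{u}} (i : Z ⟶ X) [IsClosedImmersion i]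

theorem isPseudoCoherentD_of_iso {m : ℤ} {K K' : DCoh.D X} (e : K ≅ K') (h : DCoh.IsPseudoCoherentD m K) :
    DCoh.IsPseudoCoherentD m K' := fun x => by
  obtain ⟨V, hx, hV⟩ := h x
  exact ⟨V, hx, fun F ⟨eF⟩ => hV F ⟨eF ≪≫ e.symm⟩⟩

theorem isQCohD_RHomOPlus (hpc : ∀ m : ℤ, DCoh.IsPseudoCoherentD m (DCoh.inD X (Closed.M0 i)))
    [Dual3.HasHomO i] [EnoughInjectives X.Modules]
    (K : DerivedCategory.Plus X.Modules) (hK : DCoh.IsQCohD K.obj) :
    DCoh.IsQCohD ((Dual3.RHomOPlus i).obj K).obj := fun j => by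
  have := KFlat.LTensor.hasLTensorCx (Closed.E0 i)
  have := KFlat.RHomExists.hasRSheafHom (Closed.E0 i)
  obtain ⟨e⟩ := Reflect.nonempty_HD_iso i K j
  obtain ⟨a, ha⟩ := K.property
  refine Reflect.isQCoh_of_push i (@Groth.Agent.QCoh.isQuasicoherent_of_iso _ _ _ e.symm ?_)
  exact KFlat.RHomApprox.isQCoh_HD_RSheafHom (Closed.E0 i) (a - j - 1)
    (isPseudoCoherentD_of_iso (((SingleFunctors.evaluation _ _ 0).mapIso
      (DerivedCategory.singleFunctorsPostcompQIso X.Modules)).app (Closed.M0 i)) (hpc _)) K.obj hK a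
    (fun m hm => DerivedCategory.isZero_of_isGE K.obj a m hm) j (by omega)

theorem nonempty_iso (hpc : ∀ m : ℤ, DCoh.IsPseudoCoherentD m (DCoh.inD X (Closed.M0 i)))
    [Dual3.HasHomO i] [EnoughInjectives X.Modules] [DCoh.HasRpush i] (hf : DCoh.RpushPreservesQCoh i)
    (a : DCoh.DQCoh X ⥤ DCoh.DQCoh Z) (adj : DCoh.RpushQ i hf ⊣ a) :
    Nonempty (Dual3.bddι X ⋙ a ⋙ ObjectProperty.ι _ ≅
      Dual3.bddToPlus X ⋙ Dual3.RHomOPlus i ⋙
        (DerivedCategory.Plus.ι : DerivedCategory.Plus Z.Modules ⥤ DCoh.D Z)) := by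
  have : PreservesColimitsOfSize.{0, 0} (Scheme.Modules.pushforward i) :=
    (Dual3.homOAdj i).leftAdjoint_preservesColimits
  have : PreservesLimitsOfSize.{0, 0} (Scheme.Modules.pushforward i) :=
    (Scheme.Modules.pullbackPushforwardAdjunction i).rightAdjoint_preservesLimits
  have : PreservesFiniteColimits (Scheme.Modules.pushforward i) :=
    PreservesColimitsOfSize.preservesFiniteColimits.{0, 0} _
  have : PreservesFiniteLimits (Scheme.Modules.pushforward i) :=
    PreservesLimitsOfSize.preservesFiniteLimits.{0, 0} _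
  let F := (Dual3.homO i).mapHomotopyCategory (ComplexShape.up ℤ) ⋙ DerivedCategory.Qh
  have hF : F.HasRightDerivedFunctor (HomotopyCategory.quasiIso X.Modules (ComplexShape.up ℤ)) :=
    (DTrunc.RightDerived.hasEnough F).hasRightDerivedFunctor _
  let RR := F.totalRightDerived DerivedCategory.Qh (HomotopyCategory.quasiIso X.Modules (ComplexShape.up ℤ))
  let β := F.totalRightDerivedUnit DerivedCategory.Qh (HomotopyCategory.quasiIso X.Modules (ComplexShape.up ℤ))
  obtain ⟨aR₀⟩ := DTrunc.DerivedPushAdj.nonempty_adjunction RR β (Dual3.homOAdj i)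
  obtain ⟨p⟩ := Closed.nonempty_pushD_iso i
  let aR : DCoh.Rpush i ⊣ RR := aR₀.ofNatIsoLeft p
  obtain ⟨w⟩ := DPlusAdj.Compare.nonempty_iso (Dual3.homO i) RR β
  let B := Dual3.bddToPlus X ⋙ Dual3.RHomOPlus i ⋙
    (DerivedCategory.Plus.ι : DerivedCategory.Plus Z.Modules ⥤ DCoh.D Z)
  have hB : ∀ K, DCoh.IsQCohD (B.obj K) := fun K =>
    isQCohD_RHomOPlus i hpc ((Dual3.bddToPlus X).obj K) K.obj.property
  let B' := ObjectProperty.lift (DCoh.IsQCohD (X := Z)) B hB
  let eB : B ≅ (Dual3.bddι X ⋙ ObjectProperty.ι _) ⋙ RR :=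
    Functor.isoWhiskerLeft (Dual3.bddToPlus X) w
  let E : ∀ K N, (N ⟶ a.obj ((Dual3.bddι X).obj K)) ≃ (N ⟶ B'.obj K) := fun K N =>
    (adj.homEquiv N _).symm.trans <|
      (DCoh.IsQCohD (X := X)).fullyFaithfulι.homEquiv.trans <|
      (aR.homEquiv N.obj _).trans <|
      (eB.app K).symm.homToEquiv.trans
      ((DCoh.IsQCohD (X := Z)).fullyFaithfulι.homEquiv (X := N) (Y := B'.obj K)).symm
  let y : (Dual3.bddι X ⋙ a) ⋙ yoneda ≅ B' ⋙ yoneda :=
    NatIso.ofComponents (fun K => NatIso.ofComponents (fun N => (E K N.unop).toIso)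
      (fun {N N'} φ => by
        ext g
        refine InducedCategory.hom_ext ?_
        change aR.homEquiv _ _ ((adj.homEquiv _ _).symm (φ.unop ≫ g)).hom ≫ eB.inv.app K =
          φ.unop.hom ≫ aR.homEquiv _ _ ((adj.homEquiv _ _).symm g).hom ≫ eB.inv.app K
        rw [Adjunction.homEquiv_naturality_left_symm, InducedCategory.comp_hom]
        erw [Adjunction.homEquiv_naturality_left]
        simp only [Category.assoc]
        rfl))
      (fun {K K'} φ => by
        ext N g
        refine InducedCategory.hom_ext ?_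
        change aR.homEquiv _ _ ((adj.homEquiv _ _).symm (g ≫ a.map φ.hom)).hom ≫ eB.inv.app K' =
          (aR.homEquiv _ _ ((adj.homEquiv _ _).symm g).hom ≫ eB.inv.app K) ≫ B.map φ
        rw [Adjunction.homEquiv_naturality_right_symm, InducedCategory.comp_hom]
        erw [Adjunction.homEquiv_naturality_right]
        rw [Category.assoc, Category.assoc, ← eB.inv.naturality φ]
        rfl)
  let z : Dual3.bddι X ⋙ a ≅ B' := ((Yoneda.fullyFaithful).whiskeringRight _).preimageIso y
  exact ⟨(Functor.associator _ _ _).symm ≪≫ Functor.isoWhiskerRight z (DCoh.IsQCohD (X := Z)).ι ≪≫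
    ObjectProperty.liftCompιIso _ _ _⟩

end Groth.Agent.Dual3RHom.AdjQ
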