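import Groth.Agent.KFlat.RHomCoh
import Groth.Agent.KFlat.RHomApprox
import Groth.Agent.KFlat.LTensorExact

/-!
`RHom(-, G)` for `G` a bounded above complex of injectives, in high degrees.
-/

set_option autoImplicit false

universe u

open CategoryTheory CategoryTheory.Limits AlgebraicGeometry Opposite
open CategoryTheory.Pretriangulated
open scoped ZeroObject
open Groth.Agent.KFlat Groth.Agent.SitePull

attribute [local instance] HasDerivedCategory.standard

namespace Groth.Agent.Dual3RHom.IntoInj

section Generic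

variable {A : Type (u + 1)} [Category.{u} A] [Abelian A]

/-- `G` receives no maps from degrees above `b`. -/
def KillsAbove (G : DerivedCategory A) (b : ℤ) : Prop :=
  ∀ (M : DerivedCategory A) (a : ℤ), M.IsGE a → b < a → ∀ z : M ⟶ G, z = 0

theorem killsAbove_of_injective (I : CochainComplex A ℤ) [I.IsKInjective] (b : ℤ)
    (hI : ∀ i, b < i → IsZero (I.X i)) : KillsAbove (DerivedCategory.Q.obj I) b := by
  intro M a hM hba z
  obtain ⟨N, hN, ⟨e⟩⟩ := DerivedCategory.exists_iso_Q_obj_of_isGE M a (hX := hM)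
  obtain ⟨g, hg⟩ := Groth.Agent.DHA.KInj.Q_map_surjective N I (e.inv ≫ z)
  have h0 : g = 0 := by
    ext k
    by_cases hk : k < a
    · exact (CochainComplex.isZero_of_isStrictlyGE N a k hk).eq_of_src _ _
    · exact (hI k (by omega)).eq_of_tgt _ _
  rw [h0, Functor.map_zero] at hg
  exact (cancel_epi e.inv).1 (hg.symm.trans comp_zero.symm)

theorem isGE_of_isZero_homology (K : CochainComplex A ℤ) (a : ℤ) (h : ∀ i, i < a → IsZero (K.homology i)) :
    (DerivedCategory.Q.obj K).IsGE a := by
  rw [DerivedCategory.isGE_iff]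
  exact fun i hi => (h i hi).of_iso ((DerivedCategory.homologyFunctorFactors A i).app K)

theorem bijective_of_shortExact {S : ShortComplex (CochainComplex A ℤ)} (hS : S.ShortExact) (a b : ℤ)
    (ha : ∀ i, i < a → IsZero (S.X₃.homology i)) (G : DerivedCategory A) (hG : KillsAbove G b) (hba : b < a) :
    Function.Bijective fun z : DerivedCategory.Q.obj S.X₂ ⟶ G => DerivedCategory.Q.map S.f ≫ z := by
  have hT := DerivedCategory.triangleOfSES_distinguished hS
  have : (DerivedCategory.Q.obj S.X₃).IsGE a := isGE_of_isZero_homology _ a ha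
  let t := DerivedCategory.TStructure.t (C := A)
  have h0 : ∀ z : DerivedCategory.Q.obj S.X₃ ⟶ G, z = 0 := fun z => hG _ a this hba z
  have : t.IsGE ((DerivedCategory.Q.obj S.X₃)⟦(-1 : ℤ)⟧) (a + 1) :=
    t.isGE_shift (DerivedCategory.Q.obj S.X₃) a (-1) (a + 1) (by omega)
  have h1 : ∀ z : (DerivedCategory.Q.obj S.X₃)⟦(-1 : ℤ)⟧ ⟶ G, z = 0 := fun z =>
    hG _ (a + 1) this (by omega) z
  refine ⟨fun z z' hz => sub_eq_zero.1 ?_, fun z => ?_⟩
  · obtain ⟨w, hw⟩ := Triangle.yoneda_exact₂ _ hT (z - z') (by
      change DerivedCategory.Q.map S.f ≫ (z - z') = 0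
      rw [Preadditive.comp_sub, sub_eq_zero]
      exact hz)
    exact hw.trans ((congrArg _ (h0 w)).trans comp_zero)
  · obtain ⟨w, hw⟩ := Triangle.yoneda_exact₂ _ (inv_rot_of_distTriang _ hT) z (h1 _)
    exact ⟨w, hw.symm⟩

theorem exists_truncGE (K : CochainComplex A ℤ) (a : ℤ) (h : ∀ i, i < a → IsZero (K.homology i)) :
    ∃ (K' : CochainComplex A ℤ) (q : K ⟶ K'), QuasiIso q ∧ ∀ i, i < a → IsZero (K'.X i) := by
  have : K.IsGE a := (CochainComplex.isGE_iff K a).2 fun i hi => by
    rw [HomologicalComplex.exactAt_iff_isZero_homology]; exact h i hi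
  exact ⟨K.truncGE a, K.πTruncGE a, inferInstance, fun i hi => CochainComplex.isZero_of_isStrictlyGE _ a i hi⟩

theorem homology_cokernel_isZero {Z F : CochainComplex A ℤ} (i : Z ⟶ F) [Mono i] (n : ℤ)
    (h₁ : ∀ k, k < n → IsIso (HomologicalComplex.homologyMap i k)) (h₂ : Mono (HomologicalComplex.homologyMap i n))
    (k : ℤ) (hk : k < n) : IsZero ((cokernel i).homology k) := by
  let S := ShortComplex.mk i (cokernel.π i) (cokernel.condition i)
  have hS : S.ShortExact :=
    { exact := ShortComplex.exact_of_g_is_cokernel _ (cokernelIsCokernel i)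
      mono_f := inferInstanceAs (Mono i)
      epi_g := inferInstanceAs (Epi (cokernel.π i)) }
  have := h₁ k hk
  have : Epi (HomologicalComplex.homologyMap S.f k) := inferInstanceAs (Epi (HomologicalComplex.homologyMap i k))
  have hg : HomologicalComplex.homologyMap S.g k = 0 :=
    (hS.homology_exact₂ k).epi_f_iff |>.1 ‹_›
  have hd : Mono (hS.δ k (k + 1) rfl) := (hS.homology_exact₃ k (k + 1) rfl).mono_g hg
  have : Mono (HomologicalComplex.homologyMap i (k + 1)) := by
    rcases eq_or_lt_of_le (show k + 1 ≤ n by omega) with h | h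
    · rw [h]; exact h₂
    · have := h₁ (k + 1) h; infer_instance
  have hd0 : hS.δ k (k + 1) rfl = 0 := (cancel_mono (HomologicalComplex.homologyMap i (k + 1))).1
    ((hS.δ_comp k (k + 1) rfl).trans zero_comp.symm)
  exact IsZero.of_mono_eq_zero _ hd0

theorem bijective_map_comp {T : CochainComplex A ℤ ⥤ CochainComplex A ℤ} [T.PreservesZeroMorphisms]
    {Z F₁ F C : CochainComplex A ℤ} (i : Z ⟶ F₁) (q : F₁ ⟶ C) (p : F₁ ⟶ F) (w : i ≫ q = 0)
    (hS : ((ShortComplex.mk i q w).map T).ShortExact) (hp : QuasiIso (T.map p)) (a b : ℤ)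
    (ha : ∀ k, k < a → IsZero ((T.obj C).homology k)) (G : DerivedCategory A) (hG : KillsAbove G b) (hba : b < a) :
    Function.Bijective fun z : DerivedCategory.Q.obj (T.obj F) ⟶ G => DerivedCategory.Q.map (T.map (i ≫ p)) ≫ z := by
  have hbij := bijective_of_shortExact hS a b ha G hG hba
  let pD := DerivedCategory.Q.map (T.map p)
  have hp' : Function.Bijective fun z : DerivedCategory.Q.obj (T.obj F) ⟶ G => pD ≫ z :=
    ⟨fun a b hab => (cancel_epi pD).1 hab, fun y => ⟨inv pD ≫ y, by simp⟩⟩
  refine RHomApprox.bij_congr (fun z => ?_) (hbij.comp hp')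
  simp [pD]
  rfl

end Generic

variable {X : Scheme.{u}}

theorem isZero_tot_single (M : X.Modules) (j a : ℤ) (L : CochainComplex X.Modules ℤ)
    (hL : ∀ i, i < a → IsZero (L.X i)) (k : ℤ) (hk : k < j + a) :
    IsZero ((((DCoh.tensorCx (X := X)).obj
      ((HomologicalComplex.single X.Modules (ComplexShape.up ℤ) j).obj M)).obj L).X k) := by
  rw [IsZero.iff_id_eq_zero]
  refine tot_hom_ext fun p q hpq => ?_
  refine IsZero.eq_of_src ?_ _ _
  by_cases hp : p = j
  · exact Functor.map_isZero ((ModSite.tensorBi X.sheaf).obj _) (hL q (by omega))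
  · exact Functor.map_isZero ((ModSite.tensorBi X.sheaf).flip.obj _)
      (HomologicalComplex.isZero_single_obj_X _ _ _ _ hp)

theorem isZero_homology_tensor_single (M : X.Modules) (hM : TensorMono M) (j a : ℤ)
    (L : CochainComplex X.Modules ℤ) (hL : ∀ i, i < a → IsZero (L.homology i)) (k : ℤ) (hk : k < j + a) :
    IsZero ((((DCoh.tensorCx (X := X)).obj
      ((HomologicalComplex.single X.Modules (ComplexShape.up ℤ) j).obj M)).obj L).homology k) := by
  obtain ⟨L', q, hq, hL'⟩ := exists_truncGE L a hL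
  let P := (HomologicalComplex.single X.Modules (ComplexShape.up ℤ) j).obj M
  have hP : DCoh.IsKFlat P := isKFlat_single (O := X.sheaf) hM j
  have h2 : QuasiIso (((DCoh.tensorCx (X := X)).obj P).map q) := LTensor.quasiIso_tensorCx_map_right L hP q (hs := hq)
  have h3 := (quasiIsoAt_iff_isIso_homologyMap _ k).1 (h2.quasiIsoAt k)
  exact IsZero.of_iso ((HomologicalComplex.exactAt_iff_isZero_homology _ _).1
      (HomologicalComplex.ExactAt.of_isZero (isZero_tot_single M j a L' hL' k hk)))
    (asIso (HomologicalComplex.homologyMap (((DCoh.tensorCx (X := X)).obj P).map q) k))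

/-- Tensoring with a flat module in one degree preserves approximations. -/
theorem bijective_tensor (M : X.Modules) (hM : TensorMono M) (j n b : ℤ) (hj : b < j + n)
    {Z F : CochainComplex X.Modules ℤ} (φ : Z ⟶ F)
    (h₁ : ∀ k, k < n → IsIso (HomologicalComplex.homologyMap φ k)) (h₂ : Mono (HomologicalComplex.homologyMap φ n))
    (G : DCoh.D X) (hG : KillsAbove G b) :
    Function.Bijective fun z : DerivedCategory.Q.obj (((DCoh.tensorCx (X := X)).obj
        ((HomologicalComplex.single X.Modules (ComplexShape.up ℤ) j).obj M)).obj F) ⟶ G =>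
      DerivedCategory.Q.map (((DCoh.tensorCx (X := X)).obj
        ((HomologicalComplex.single X.Modules (ComplexShape.up ℤ) j).obj M)).map φ) ≫ z := by
  let P := (HomologicalComplex.single X.Modules (ComplexShape.up ℤ) j).obj M
  have hP : DCoh.IsKFlat P := isKFlat_single (O := X.sheaf) hM j
  obtain ⟨F₁, i, p, hp, rfl, hr⟩ := RHomApprox.exists_splitMono φ
  choose r₀ hr₀ using hr
  have : Mono i := HomologicalComplex.mono_of_mono_f _ fun k => mono_of_mono_fac (hr₀ k)
  have hz : ∀ k, k < n → IsZero ((cokernel i).homology k) := by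
    refine homology_cokernel_isZero i n (fun k hk => ?_) ?_
    · have := h₁ k hk
      rw [HomologicalComplex.homologyMap_comp] at this
      exact IsIso.of_isIso_comp_right _ (HomologicalComplex.homologyMap p k)
    · rw [HomologicalComplex.homologyMap_comp] at h₂
      exact mono_of_mono _ (HomologicalComplex.homologyMap p n)
  let S := ShortComplex.mk i (cokernel.π i) (cokernel.condition i)
  have hS : S.ShortExact :=
    { exact := ShortComplex.exact_of_g_is_cokernel _ (cokernelIsCokernel i)
      mono_f := inferInstanceAs (Mono i)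
      epi_g := inferInstanceAs (Epi (cokernel.π i)) }
  let σ : ∀ k, (S.map (HomologicalComplex.eval X.Modules (ComplexShape.up ℤ) k)).Splitting := fun k =>
    ShortComplex.Splitting.ofExactOfRetraction _ (hS.map_of_exact _).exact (r₀ k) (hr₀ k)
      (hS.map_of_exact _).epi_g
  have hS' : (S.map ((DCoh.tensorCx (X := X)).obj P)).ShortExact := shortExact_tens (O := X.sheaf) σ P
  exact bijective_map_comp (T := (DCoh.tensorCx (X := X)).obj P) i (cokernel.π i) p (cokernel.condition i) hS'
    (LTensor.quasiIso_tensorCx_map_right _ hP p) (j + n) b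
    (fun k hk => isZero_homology_tensor_single M hM j n (cokernel i) hz k hk) G hG hj

section Functorial

variable {Z F : CochainComplex X.Modules ℤ} (φ : Z ⟶ F) [DCoh.HasLTensorCx Z] [DCoh.HasLTensorCx F]
  [DCoh.HasRSheafHom Z] [DCoh.HasRSheafHom F]

open RHomApprox in
/-- `RHom` out of a truncation agrees in high degrees. -/
theorem isIso_H_rhomMap (j n b : ℤ) (hj : b < j + n)
    (h₁ : ∀ k, k < n → IsIso (HomologicalComplex.homologyMap φ k)) (h₂ : Mono (HomologicalComplex.homologyMap φ n))
    (G : DCoh.D X) (hG : KillsAbove G b) :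
    IsIso ((DerivedCategory.homologyFunctor X.Modules j).map ((rhomMap φ).app G)) := by
  refine isIso_H_of_bijective _ j fun W => ?_
  let P := (HomologicalComplex.single X.Modules (ComplexShape.up ℤ) j).obj (freeU X.sheaf W)
  have hP : DCoh.IsKFlat P := isKFlat_single (O := X.sheaf) (tensorMono_freeU W) j
  let σ : (DerivedCategory.singleFunctor X.Modules j).obj (freeU X.sheaf W) ≅ DerivedCategory.Q.obj P :=
    ((SingleFunctors.evaluation _ _ j).mapIso (DerivedCategory.singleFunctorsPostcompQIso X.Modules)).app _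
  have := LTensor.isIso_toTensor Z hP
  have := LTensor.isIso_toTensor F hP
  let aZ := (DCoh.LTensorCx Z).mapIso σ ≪≫ asIso ((LTensor.toTensor Z).app P)
  let aF := (DCoh.LTensorCx F).mapIso σ ≪≫ asIso ((LTensor.toTensor F).app P)
  have hsq : (ltMap φ).app _ ≫ aF.hom =
      aZ.hom ≫ DerivedCategory.Q.map (((DCoh.tensorCx (X := X)).obj P).map φ) := by
    change (ltMap φ).app _ ≫ (DCoh.LTensorCx F).map σ.hom ≫ (LTensor.toTensor F).app P =
      ((DCoh.LTensorCx Z).map σ.hom ≫ (LTensor.toTensor Z).app P) ≫ _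
    rw [← Category.assoc, ← (ltMap φ).naturality, Category.assoc, Category.assoc]
    refine congrArg (_ ≫ ·) ?_
    exact Functor.leftDerivedNatTrans_app _ _ _ _ _ _ P
  have hb := bijective_tensor (freeU X.sheaf W) (tensorMono_freeU W) j n b hj φ h₁ h₂ G hG
  have hτ : Function.Bijective fun z : (DCoh.LTensorCx F).obj
      ((DerivedCategory.singleFunctor X.Modules j).obj (freeU X.sheaf W)) ⟶ G => (ltMap φ).app _ ≫ z := by
    have h3 : Function.Bijective fun z : (DCoh.LTensorCx F).obj
        ((DerivedCategory.singleFunctor X.Modules j).obj (freeU X.sheaf W)) ⟶ G => aF.inv ≫ z :=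
      ⟨fun a b hab => (cancel_epi aF.inv).1 hab, fun y => ⟨aF.hom ≫ y, by simp⟩⟩
    have h4 : Function.Bijective fun z : DerivedCategory.Q.obj (((DCoh.tensorCx (X := X)).obj P).obj Z) ⟶ G => aZ.hom ≫ z :=
      ⟨fun a b hab => (cancel_epi aZ.hom).1 hab, fun y => ⟨aZ.inv ≫ y, by simp⟩⟩
    refine bij_congr (fun z => ?_) (h4.comp (hb.comp h3))
    simp only [Function.comp_apply]
    rw [← Category.assoc, ← hsq, Category.assoc, aF.hom_inv_id_assoc]
  have hh := (((DCoh.RSheafHomAdj Z).homEquiv _ G).bijective.comp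
    (hτ.comp ((DCoh.RSheafHomAdj F).homEquiv _ G).symm.bijective))
  refine bij_congr (fun y => ?_) hh
  simp only [Function.comp_apply]
  rw [← homEquiv_symm_rhomMap, Equiv.apply_symm_apply]
  rfl

end Functorial

/-- `RHom` into injectives in degrees `≤ b` out of degrees `≥ c` lives in degrees `≤ b - c`. -/
theorem isZero_HD_RSheafHom (K : CochainComplex X.Modules ℤ) [DCoh.HasLTensorCx K] [DCoh.HasRSheafHom K]
    (c b : ℤ) (hK : ∀ i, i < c → IsZero (K.homology i)) (G : DCoh.D X) (hG : KillsAbove G b)
    (j : ℤ) (hj : b - c < j) : IsZero (DCoh.HD ((DCoh.RSheafHom K).obj G) j) := by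
  let R := (DCoh.RSheafHom K).obj G
  let Z : DCoh.D X := DerivedCategory.Q.obj 0
  have hZ : IsZero Z := DerivedCategory.Q.map_isZero (isZero_zero _)
  have : IsIso ((DerivedCategory.homologyFunctor X.Modules j).map (0 : Z ⟶ R)) := by
    refine RHomApprox.isIso_H_of_bijective _ j fun W => ⟨fun y y' _ => hZ.eq_of_tgt _ _, fun y => ⟨0, ?_⟩⟩
    let P := (HomologicalComplex.single X.Modules (ComplexShape.up ℤ) j).obj (freeU X.sheaf W)
    have hP : DCoh.IsKFlat P := isKFlat_single (O := X.sheaf) (tensorMono_freeU W) j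
    have hge : (DerivedCategory.Q.obj (((DCoh.tensorCx (X := X)).obj P).obj K)).IsGE (j + c) :=
      isGE_of_isZero_homology _ _ fun k hk =>
        isZero_homology_tensor_single _ (tensorMono_freeU W) j c K hK k hk
    have := LTensor.isIso_toTensor K hP
    let σ : (DerivedCategory.singleFunctor X.Modules j).obj (freeU X.sheaf W) ≅ DerivedCategory.Q.obj P :=
      ((SingleFunctors.evaluation _ _ j).mapIso (DerivedCategory.singleFunctorsPostcompQIso X.Modules)).app _
    let aK := (DCoh.LTensorCx K).mapIso σ ≪≫ asIso ((LTensor.toTensor K).app P)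
    have h0 : ((DCoh.RSheafHomAdj K).homEquiv _ G).symm y = 0 :=
      (cancel_epi aK.inv).1 ((hG _ (j + c) hge (by omega) _).trans comp_zero.symm)
    refine zero_comp.trans (Eq.symm ?_)
    apply ((DCoh.RSheafHomAdj K).homEquiv _ G).symm.injective
    refine h0.trans ?_
    refine ((Adjunction.homEquiv_counit (DCoh.RSheafHomAdj K) _ G 0).trans ?_).symm
    exact (congrArg (· ≫ _) (Functor.map_zero _ _ _)).trans zero_comp
  exact ((DerivedCategory.homologyFunctor X.Modules j).map_isZero hZ).of_iso
    (asIso ((DerivedCategory.homologyFunctor X.Modules j).map (0 : Z ⟶ R))).symm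

end Groth.Agent.Dual3RHom.IntoInj
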