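import Groth.Agent.Dual3RHom.TildeLT
import Groth.Agent.Dual3RHom.IntoInj
import Groth.Agent.KFlat.PCNoeth
import Groth.Agent.KFlat.TildeD
import Groth.Agent.InjMod.Affine

/-!
`R Hom(K~, L~) = R Hom_A(K, L)~` for `L` of finite injective dimension.
-/

set_option autoImplicit false

universe u

open CategoryTheory CategoryTheory.Limits AlgebraicGeometry

attribute [local instance] HasDerivedCategory.standard

noncomputable section

namespace Groth.Agent.Dual3RHom.AffineRHom

theorem nonempty_iso (R : CommRingCat.{u}) [IsNoetherianRing R] [PreservesFiniteLimits (tilde.functor R)]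
    (K : DRing.Cx R) (hK : ∀ i : ℤ, Module.Finite R (Dual.HD R (DRing.toD K) i)) [DRing.HasRHomCx K]
    (L : Dual.D R) (hL : DRing.HasFiniteInjDim R L)
    (E : CochainComplex (Spec (CommRingCat.of R)).Modules ℤ)
    (hE : Nonempty (DCoh.toD (Spec (CommRingCat.of R)) E ≅ (DCoh.tildeD R).obj (DRing.toD K)))
    [DCoh.HasLTensorCx E] [DCoh.HasRSheafHom E] :
    Nonempty ((DCoh.RSheafHom E).obj ((DCoh.tildeD R).obj L) ≅
      (DCoh.tildeD R).obj ((DRing.RHomCx K).obj L)) := by
  classical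
  obtain ⟨P, hP, -, ⟨eP⟩⟩ := DRing.DBasic.exists_kproj_iso (DRing.toD K)
  obtain ⟨ee⟩ := hE
  let φ := (tilde.functor R).mapDerivedCategoryFactors
  let e₀ : DCoh.toD (Spec (CommRingCat.of R)) E ≅ DCoh.toD (Spec (CommRingCat.of R)) (Dual3RHom.TildeLT.tC.obj P) :=
    ee ≪≫ (DCoh.tildeD R).mapIso eP.symm ≪≫ φ.app P
  have := KFlat.LTensor.hasLTensorCx (Dual3RHom.TildeLT.tC.obj P)
  have := DRing.LTensor.hasLTensorCx P
  have := DRing.RHomRep.hasRHomCx P
  obtain ⟨c⟩ := KFlat.StrictDual.nonempty_ltCongr (A := E) (B := Dual3RHom.TildeLT.tC.obj P) e₀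
  obtain ⟨l⟩ := Dual3RHom.TildeLT.nonempty_lt_iso (R := R) P
  obtain ⟨adjA⟩ := Dual3RHom.TildeLT.nonempty_adj P
  obtain ⟨a, b, I, hIz, hIinj, ⟨eI⟩⟩ := hL
  -- the image of `L` is a bounded complex of injective modules
  let J := Dual3RHom.TildeLT.tC.obj I
  have hJinj : ∀ n : ℤ, Injective (J.X n) := fun n => InjMod.injective_tilde (R := R) (I.X n) (hIinj n)
  have hJz : ∀ n : ℤ, n < a ∨ b < n → IsZero (J.X n) := fun n hn => (tilde.functor R).map_isZero (hIz n hn)
  have : J.IsStrictlyGE a := (CochainComplex.isStrictlyGE_iff J a).2 fun i hi => hJz i (Or.inl hi)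
  have : J.IsKInjective := CochainComplex.isKInjective_of_injective J a
  let eJ : (DCoh.tildeD R).obj L ≅ DCoh.toD (Spec (CommRingCat.of R)) J := (DCoh.tildeD R).mapIso eI.symm ≪≫ φ.app I
  have hkill : Dual3RHom.IntoInj.KillsAbove ((DCoh.tildeD R).obj L) b := fun M m hM hbm z =>
    (cancel_mono eJ.hom).1 ((Dual3RHom.IntoInj.killsAbove_of_injective J b (fun i hi => hJz i (Or.inr hi))
      M m hM hbm (z ≫ eJ.hom)).trans zero_comp.symm)
  have hJa : ((DCoh.tildeD R).obj L).IsGE a := by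
    rw [DerivedCategory.isGE_iff]
    exact fun i hi => (ShortComplex.isZero_homology_of_isZero_X₂ _ (hJz i (Or.inl hi))).of_iso
      ((DerivedCategory.homologyFunctor _ i).mapIso eJ ≪≫
        (DerivedCategory.homologyFunctorFactors _ i).app J)
  have hLq := KFlat.TildeD.isQCohD_tildeD (R := R) L
  have hEc : ∀ k, Coh.IsCoh (DCoh.HD (DCoh.toD (Spec (CommRingCat.of R)) E) k) := fun k =>
    CohDev.isCoh_of_iso ((DerivedCategory.homologyFunctor _ k).mapIso ee).symm
      ((KFlat.PCNoeth.isCoh_HD_tildeD_iff (R := R) (DRing.toD K) k).2 (hK k))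
  have hq : DCoh.IsQCohD ((DCoh.RSheafHom E).obj ((DCoh.tildeD R).obj L)) := fun i => by
    let n := b - i + 1
    let L' := E.truncLE n
    have := KFlat.LTensor.hasLTensorCx L'
    have := KFlat.RHomExists.hasRSheafHom L'
    have hiso : ∀ k, k ≤ n → IsIso (HomologicalComplex.homologyMap (E.ιTruncLE n) k) := fun k hk =>
      (quasiIsoAt_iff_isIso_homologyMap _ k).1 (E.quasiIsoAt_ιTruncLE n k hk)
    have h₂ : Mono (HomologicalComplex.homologyMap (E.ιTruncLE n) n) := by
      have := hiso n le_rfl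
      infer_instance
    have := Dual3RHom.IntoInj.isIso_H_rhomMap (E.ιTruncLE n) i n b (by omega) (fun k hk => hiso k hk.le) h₂
      _ hkill
    refine @Groth.Agent.QCoh.isQuasicoherent_of_iso _ _ _ (asIso ((DerivedCategory.homologyFunctor _ i).map
      ((KFlat.RHomApprox.rhomMap (E.ιTruncLE n)).app ((DCoh.tildeD R).obj L)))).symm ?_
    have hz' : ∀ k, n < k → IsZero (L'.homology k) := fun k hk =>
      ShortComplex.isZero_homology_of_isZero_X₂ _ (CochainComplex.isZero_of_isStrictlyLE L' n k hk)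
    have hLE : (DCoh.toD (Spec (CommRingCat.of R)) L').IsLE n := KFlat.RHomApprox.isLE_of_isZero_homology L' n hz'
    let ff : ∀ (M : CochainComplex (Spec (CommRingCat.of R)).Modules ℤ) (k : ℤ), DCoh.HD (DCoh.toD (Spec (CommRingCat.of R)) M) k ≅ M.homology k :=
      fun M k => (DerivedCategory.homologyFunctorFactors _ k).app M
    have hc : DCoh.IsCohD (DCoh.toD (Spec (CommRingCat.of R)) L') := fun k => by
      refine CohDev.isCoh_of_iso (ff L' k).symm ?_
      by_cases hk : k ≤ n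
      · have := hiso k hk
        exact CohDev.isCoh_of_iso
          ((asIso (HomologicalComplex.homologyMap (E.ιTruncLE n) k)) ≪≫ (ff E k).symm).symm (hEc k)
      · exact CohDev.isCoh_of_isZero (hz' k (by omega))
    exact KFlat.RHomApprox.isQCoh_HD_RSheafHom L' (a - i - 1)
      (KFlat.PCNoeth.isPseudoCoherentD_of_isCohD _ hc n _) _ hLq a
      (fun m hm => DerivedCategory.isZero_of_isGE _ a m hm) i (by omega)
  obtain ⟨N, ⟨eN⟩⟩ := KFlat.TildeD.exists_iso_of_isQCohD (R := R) _ hq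
  let E' : ∀ M : Dual.D R, (M ⟶ N) ≃ (M ⟶ (DRing.RHomCx P).obj L) := fun M =>
    ((Functor.FullyFaithful.ofFullyFaithful (DCoh.tildeD R)).homEquiv.trans <| eN.homToEquiv.trans <|
      ((DCoh.RSheafHomAdj E).homEquiv _ _).symm.trans <|
      (c.app _ ≪≫ (l.app M).symm).homFromEquiv.trans <|
      (Functor.FullyFaithful.ofFullyFaithful (DCoh.tildeD R)).homEquiv.symm.trans (adjA.homEquiv M L))
  have hnat : ∀ (M M' : Dual.D R) (f : M' ⟶ M) (g : M ⟶ N), E' M' (f ≫ g) = f ≫ E' M g := by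
    intro M M' f g
    let T := DCoh.tildeD R
    let v := Functor.FullyFaithful.ofFullyFaithful T
    show adjA.homEquiv M' L (v.preimage ((c.app (T.obj M') ≪≫ (l.app M').symm).inv ≫
        ((DCoh.RSheafHomAdj E).homEquiv _ _).symm (T.map (f ≫ g) ≫ eN.hom))) =
      f ≫ adjA.homEquiv M L (v.preimage ((c.app (T.obj M) ≪≫ (l.app M).symm).inv ≫
        ((DCoh.RSheafHomAdj E).homEquiv _ _).symm (T.map g ≫ eN.hom)))
    rw [← Adjunction.homEquiv_naturality_left]
    refine congrArg _ (v.map_injective ?_)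
    simp only [Functor.map_comp, Functor.FullyFaithful.map_preimage, Category.assoc, Iso.trans_inv,
      Iso.symm_inv, Iso.app_inv, Iso.app_hom]
    rw [Adjunction.homEquiv_naturality_left_symm]
    erw [← c.inv.naturality_assoc (T.map f), ← l.hom.naturality_assoc f]
    rfl
  let y : yoneda.obj N ≅ yoneda.obj ((DRing.RHomCx P).obj L) :=
    NatIso.ofComponents (fun M => (E' M.unop).toIso) (fun {M M'} f => by
      ext g
      exact hnat M.unop M'.unop f.unop g)
  let z : N ≅ (DRing.RHomCx P).obj L := Yoneda.fullyFaithful.preimageIso y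
  obtain ⟨r₁⟩ := DRing.RHomRep.nonempty_iso_of_rep (P := P) (E := P) (Iso.refl _) eI
  obtain ⟨r₂⟩ := DRing.RHomRep.nonempty_iso_of_rep (P := P) (E := K) eP eI
  exact ⟨eN.symm ≪≫ (DCoh.tildeD R).mapIso (z ≪≫ r₁ ≪≫ r₂.symm)⟩

end Groth.Agent.Dual3RHom.AffineRHom
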