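import Groth.Agent.DPlusAdj.Compare
import Groth.Agent.KFlat.ProjFormulaClosed
import Groth.Agent.KFlat.StrictDual
import Groth.Agent.KFlat.LTensorMod
import Groth.Agent.KFlat.LpullComp
import Groth.Agent.KFlat.DerivedAdj
import Groth.Prelude.Def_Dual3

/-!
`i_* R Hom(O_Z, -) = R Hom(i_* O_Z, -)` for a closed immersion `i`.
-/

set_option autoImplicit false

universe u

open CategoryTheory CategoryTheory.Limits AlgebraicGeometry
open Groth.Agent.KFlat Groth.Agent.KFlat.Pull Groth.Agent.KFlat.RPush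

attribute [local instance] HasDerivedCategory.standard

noncomputable section

namespace Groth.Agent.Dual3RHom.Closed

variable {Z X : Scheme.{u}} (i : Z ⟶ X) [IsClosedImmersion i]

/-- `i_* O_Z`. -/
abbrev M0 : X.Modules := (Scheme.Modules.pushforward i).obj (Coh.structureModule Z)

/-- `i_* O_Z` as a complex. -/
abbrev E0 : CochainComplex X.Modules ℤ :=
  (HomologicalComplex.single X.Modules (ComplexShape.up ℤ) 0).obj (M0 i)

/-- The left unit. -/
def unitLeft : (DCoh.tensorBi (X := Z)).obj (Coh.structureModule Z) ≅ 𝟭 Z.Modules :=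
  ((Groth.Agent.KFlat.tensorBiFlipIso Z.sheaf).app (Coh.structureModule Z)).symm ≪≫ ProjFormula.unitRight Z

/-- `N ⊗ i_* O_Z ≅ i_* i^* N`. -/
def modIso : DCoh.tensorRightMod (M0 i) ≅ Scheme.Modules.pullback i ⋙ Scheme.Modules.pushforward i :=
  ((Groth.Agent.KFlat.tensorBiFlipIso X.sheaf).app (M0 i)) ≪≫
    @asIso _ _ _ _ (ProjFormula.θ i (Coh.structureModule Z))
      (ProjFormula.isIso_θ i (Coh.structureModule Z)) ≪≫
    Functor.isoWhiskerRight (Functor.isoWhiskerLeft (Scheme.Modules.pullback i) (unitLeft (Z := Z)) ≪≫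
      Functor.rightUnitor _) (Scheme.Modules.pushforward i)

/-- composites of termwise functors -/
def compIso : (Scheme.Modules.pullback i ⋙ Scheme.Modules.pushforward i).mapHomologicalComplex
    (ComplexShape.up ℤ) ≅ pullCx i ⋙ WeakKInj.pushCx i :=
  NatIso.ofComponents (fun K => HomologicalComplex.Hom.isoOfComponents (fun n => Iso.refl _)
    (fun a b _ => (Category.id_comp _).trans (Category.comp_id _).symm))
    (fun {K L} φ => by
      refine HomologicalComplex.hom_ext _ _ fun n => ?_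
      simp only [HomologicalComplex.comp_f, HomologicalComplex.Hom.isoOfComponents_hom_f, Iso.refl_hom]
      exact (Category.comp_id _).trans (Category.id_comp _).symm)

/-- `P ⊗ i_* O_Z ≅ i_* i^* P` on complexes. -/
def cxIso : LTensorMod.tmCx (M0 i) ≅ pullCx i ⋙ WeakKInj.pushCx i :=
  NatIso.mapHomologicalComplex (modIso i) (ComplexShape.up ℤ) ≪≫
    compIso i

variable [PreservesFiniteLimits (Scheme.Modules.pushforward i)]
  [PreservesFiniteColimits (Scheme.Modules.pushforward i)]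

/-- the exact direct image is the derived one -/
theorem nonempty_pushD_iso [DCoh.HasRpush i] : Nonempty (Dual3.pushD i ≅ DCoh.Rpush i) := by
  have : ∀ K, IsIso ((toRpush i).app K) := ProjFormulaClosed.isIso_toRpush_closed i
  have : IsIso (toRpush i) := NatIso.isIso_of_isIso_app _
  exact ⟨Localization.liftNatIso DerivedCategory.Q (HomologicalComplex.quasiIso Z.Modules (ComplexShape.up ℤ))
    _ _ _ _ ((Scheme.Modules.pushforward i).mapDerivedCategoryFactors ≪≫ asIso (toRpush i))⟩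

/-- `- ⊗^L i_* O_Z = i_* Li^*`. -/
theorem nonempty_lt_iso [DCoh.HasLTensorCx (E0 i)] [DCoh.HasLpull i] :
    Nonempty (DCoh.LTensorCx (E0 i) ≅ DCoh.Lpull i ⋙ Dual3.pushD i) :=
  ⟨Localization.liftNatIso DerivedCategory.Q (HomologicalComplex.quasiIso X.Modules (ComplexShape.up ℤ))
    _ _ _ _ (LTensorAssoc.ltIso (E0 i) ≪≫
      Functor.isoWhiskerLeft (resY X) ((LTensorMod.tmQIso (M0 i)).symm ≪≫
        Functor.isoWhiskerRight (cxIso i) DerivedCategory.Q ≪≫ Functor.associator _ _ _ ≪≫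
        Functor.isoWhiskerLeft (pullCx i) (Scheme.Modules.pushforward i).mapDerivedCategoryFactors.symm ≪≫
        (Functor.associator _ _ _).symm) ≪≫
      (Functor.associator _ _ _).symm ≪≫
      Functor.isoWhiskerRight (Pull.lpullIso i).symm (Dual3.pushD i) ≪≫ Functor.associator _ _ _)⟩

/-- `i_* R Hom(O_Z, -) ≅ R Hom(E, -)` on `D⁺`. -/
theorem nonempty_iso [Dual3.HasHomO i] [EnoughInjectives X.Modules] (E : CochainComplex X.Modules ℤ)
    (hE : Nonempty (DCoh.toD X E ≅ DCoh.inD X (M0 i))) [DCoh.HasLTensorCx E] [DCoh.HasRSheafHom E] :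
    Nonempty (Dual3.RHomOPlus i ⋙ (DerivedCategory.Plus.ι : DerivedCategory.Plus Z.Modules ⥤ DCoh.D Z) ⋙
      Dual3.pushD i ≅
      (DerivedCategory.Plus.ι : DerivedCategory.Plus X.Modules ⥤ DCoh.D X) ⋙ DCoh.RSheafHom E) := by
  have := RPush.hasRpush i
  have := Pull.hasLpull i
  have := LTensor.hasLTensorCx (E0 i)
  obtain ⟨e₀⟩ := hE
  obtain ⟨c⟩ := StrictDual.nonempty_ltCongr (A := E) (B := E0 i)
    (e₀ ≪≫ ((SingleFunctors.evaluation _ _ 0).mapIso
      (DerivedCategory.singleFunctorsPostcompQIso X.Modules)).app (M0 i))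
  obtain ⟨l⟩ := nonempty_lt_iso i
  obtain ⟨p⟩ := nonempty_pushD_iso i
  let F := (Dual3.homO i).mapHomotopyCategory (ComplexShape.up ℤ) ⋙ DerivedCategory.Qh
  have hF : F.HasRightDerivedFunctor (HomotopyCategory.quasiIso X.Modules (ComplexShape.up ℤ)) :=
    (DTrunc.RightDerived.hasEnough F).hasRightDerivedFunctor _
  let RR := F.totalRightDerived DerivedCategory.Qh (HomotopyCategory.quasiIso X.Modules (ComplexShape.up ℤ))
  let β := F.totalRightDerivedUnit DerivedCategory.Qh (HomotopyCategory.quasiIso X.Modules (ComplexShape.up ℤ))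
  obtain ⟨aR⟩ := DTrunc.DerivedPushAdj.nonempty_adjunction RR β (Dual3.homOAdj i)
  obtain ⟨w⟩ := DPlusAdj.Compare.nonempty_iso (Dual3.homO i) RR β
  let adj₁ : DCoh.Lpull i ⋙ Dual3.pushD i ⊣ RR ⋙ Dual3.pushD i :=
    ((KFlat.DerivedAdj.adj i).ofNatIsoRight p.symm).comp aR
  let r : DCoh.RSheafHom E ≅ RR ⋙ Dual3.pushD i :=
    (DCoh.RSheafHomAdj E).rightAdjointUniq (adj₁.ofNatIsoLeft (c ≪≫ l).symm)
  exact ⟨(Functor.associator _ _ _).symm ≪≫ Functor.isoWhiskerRight w (Dual3.pushD i) ≪≫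
    Functor.associator _ _ _ ≪≫ Functor.isoWhiskerLeft _ r.symm⟩

end Groth.Agent.Dual3RHom.Closed
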