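import Groth.Agent.DEq.ProjQCoh
import Groth.Agent.PCohD.RpushAffine
import Groth.Agent.PCohD.Coherent
import Groth.Agent.KFlat.DerivedAdj
import Groth.Agent.KFlat.StrictDual
import Groth.Agent.ProperFin.FiniteMap
import Groth.Agent.Props.AffineCritFT
import Groth.Agent.S1115
import Groth.Agent.S1054
import Groth.Prelude.Def_Dual3
import Mathlib.CategoryTheory.Adjunction.Restrict

/-!
# Duality for a finite morphism: `Rf_* f^! = RHom(f_* O, -)`
-/

set_option autoImplicit false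

universe u

open CategoryTheory CategoryTheory.Limits AlgebraicGeometry
open Groth.Agent.KFlat Groth.Agent.KFlat.Pull Groth.Agent.KFlat.WeakKInj Groth.Agent.KFlat.RPush

attribute [local instance] HasDerivedCategory.standard

noncomputable section

namespace Groth.Agent.Dual3RHom.Finite

/-- `- ⊗ᴸ O ≅ 𝟭`. -/
theorem nonempty_lt_one (X : Scheme.{u}) [DCoh.HasLTensorCx (UnitCx.oneCx X)] :
    Nonempty (DCoh.LTensorCx (UnitCx.oneCx X) ≅ 𝟭 (DCoh.D X)) :=
  ⟨Localization.liftNatIso DerivedCategory.Q (HomologicalComplex.quasiIso X.Modules (ComplexShape.up ℤ))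
    (DerivedCategory.Q ⋙ DCoh.LTensorCx (UnitCx.oneCx X)) DerivedCategory.Q _ _
    (LTensorAssoc.ltIso (UnitCx.oneCx X) ≪≫
      Functor.isoWhiskerLeft (resY X) (Functor.isoWhiskerRight UnitCx.unitNatIso DerivedCategory.Q ≪≫
        Functor.leftUnitor _) ≪≫ resQIso)⟩

variable {X Y : Scheme.{u}} (f : X ⟶ Y) [IsFinite f] [DCoh.HasRpush f] [DCoh.HasLpull f]

/-- `Rf_* Lf^* ≅ - ⊗ᴸ f_* O` on `D_QCoh`. -/
theorem nonempty_proj [IsLocallyNoetherian X] (E : CochainComplex Y.Modules ℤ)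
    (hE : Nonempty (DCoh.toD Y E ≅ DCoh.inD Y ((Scheme.Modules.pushforward f).obj (Coh.structureModule X))))
    [DCoh.HasLTensorCx E] :
    Nonempty ((ObjectProperty.ι _ : DCoh.DQCoh Y ⥤ DCoh.D Y) ⋙ DCoh.LTensorCx E ≅
      (ObjectProperty.ι _ : DCoh.DQCoh Y ⥤ DCoh.D Y) ⋙ DCoh.Lpull f ⋙ DCoh.Rpush f) := by
  let O := Coh.structureModule X
  have hOq : O.IsQuasicoherent := (Props.AffineCritFT.isCoh_structureModule (X := X)).1
  let J := (injRes X).obj (UnitCx.oneCx X)
  let eJ : DerivedCategory.Q.obj J ≅ DerivedCategory.Q.obj (UnitCx.oneCx X) :=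
    injQIso.app (UnitCx.oneCx X)
  let eO : DerivedCategory.Q.obj (UnitCx.oneCx X) ≅ DCoh.inD X O :=
    ((DerivedCategory.singleFunctorIsoCompQ X.Modules 0).app O).symm
  have hterms : ∀ m, ((UnitCx.oneCx X).X m).IsQuasicoherent := fun m => by
    by_cases h : m = 0
    · subst h
      exact @QCoh.isQuasicoherent_of_iso _ _ _ (HomologicalComplex.singleObjXSelf (ComplexShape.up ℤ) 0 O).symm hOq
    · obtain ⟨Z, hZ, hP⟩ := ObjectProperty.ContainsZero.exists_zero (P := QCohCat.isQCoh X)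
      exact @QCoh.isQuasicoherent_of_iso _ _ _
        (hZ.iso (HomologicalComplex.isZero_single_obj_X (ComplexShape.up ℤ) 0 O m h)) hP
  have hJq : DCoh.IsQCohD (DerivedCategory.Q.obj J) :=
    QCohModel.isQCohD_of_iso eJ.symm (QCohModel.isQCohD_Q_of_terms _ hterms)
  have hA := PCohD.isIso_toRpush_affine f (UnitCx.oneCx X) hterms
  let eFJ : DerivedCategory.Q.obj (ProjPerfect.fJ f J) ≅ DerivedCategory.Q.obj E :=
    @asIso _ _ _ _ ((toRpush f).app J) (RPush.isIso_toRpush f J) ≪≫ (DCoh.Rpush f).mapIso eJ ≪≫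
      (@asIso _ _ _ _ ((toRpush f).app (UnitCx.oneCx X)) hA).symm ≪≫
      DerivedCategory.Q.mapIso
        ((HomologicalComplex.singleMapHomologicalComplex (Scheme.Modules.pushforward f) (ComplexShape.up ℤ) 0).app O) ≪≫
      ((DerivedCategory.singleFunctorIsoCompQ Y.Modules 0).app _).symm ≪≫ hE.some.symm
  have := LTensor.hasLTensorCx (ProjPerfect.fJ f J)
  have := LTensor.hasLTensorCx J
  have := LTensor.hasLTensorCx (UnitCx.oneCx X)
  obtain ⟨c⟩ := StrictDual.nonempty_ltCongr eFJ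
  obtain ⟨d⟩ := StrictDual.nonempty_ltCongr eJ
  obtain ⟨u⟩ := nonempty_lt_one X
  let ν' := Functor.whiskerLeft (ObjectProperty.ι _ : DCoh.DQCoh Y ⥤ DCoh.D Y) (ProjPerfect.ν f J)
  have : ∀ K, IsIso (ν'.app K) := fun K => by
    let P := (resY Y).obj (DerivedCategory.Q.objPreimage K.obj)
    let eP : DerivedCategory.Q.obj P ≅ K.obj :=
      (resQIso (Y := Y)).app (DerivedCategory.Q.objPreimage K.obj) ≪≫ DerivedCategory.Q.objObjPreimageIso K.obj
    exact (NatTrans.isIso_app_iff_of_iso (ProjPerfect.ν f J) eP).1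
      (DEq.ProjQCoh.isIso_ν f J hJq P (isKFlat_resY _) (QCohModel.isQCohD_of_iso eP.symm K.property))
  have : IsIso ν' := NatIso.isIso_of_isIso_app _
  exact ⟨Functor.isoWhiskerLeft _ c.symm ≪≫ asIso ν' ≪≫ Functor.isoWhiskerLeft _
    (Functor.isoWhiskerRight (Functor.isoWhiskerLeft (DCoh.Lpull f) (d ≪≫ u) ≪≫ Functor.rightUnitor _)
      (DCoh.Rpush f))⟩

/-- `Rf_* a ≅ RHom(f_* O, -)` on `D⁺_QCoh`. -/
theorem nonempty_iso [IsNoetherian Y] [IsNoetherian X] (hf : DCoh.RpushPreservesQCoh f)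
    (a : DCoh.DQCoh Y ⥤ DCoh.DQCoh X) (adj : DCoh.RpushQ f hf ⊣ a) (E : CochainComplex Y.Modules ℤ)
    (hE : Nonempty (DCoh.toD Y E ≅ DCoh.inD Y ((Scheme.Modules.pushforward f).obj (Coh.structureModule X))))
    [DCoh.HasLTensorCx E] [DCoh.HasRSheafHom E] :
    Nonempty (Dual3.bddι Y ⋙ a ⋙ DCoh.RpushQ f hf ⋙ ObjectProperty.ι _ ≅
      Dual3.bddι Y ⋙ ObjectProperty.ι _ ⋙ DCoh.RSheafHom E) := by
  have hpc : ∀ m : ℤ, DCoh.IsPseudoCoherentD m (DCoh.toD Y E) := fun m =>
    PCohD.pc_of_iso hE.some.symm (PCohD.Coherent.pc_of_isCoh'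
      (ProperFin.isCoh_push_of_isFinite f _ (Props.AffineCritFT.isCoh_structureModule (X := X))) m)
  have hLp : Dual3.LpullPreservesQCoh f := fun K hK => Groth.Agent.S1054.result f K hK
  let adjL : Dual3.LpullQ f hLp ⊣ DCoh.RpushQ f hf :=
    (DerivedAdj.adj f).restrictFullyFaithful (ObjectProperty.fullyFaithfulι _) (ObjectProperty.fullyFaithfulι _)
      (Iso.refl _) (Iso.refl _)
  let L' := Dual3.LpullQ f hLp ⋙ DCoh.RpushQ f hf
  let adj' : L' ⊣ a ⋙ DCoh.RpushQ f hf := adjL.comp adj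
  obtain ⟨n⟩ := nonempty_proj f E hE
  let G : (Dual3.IsBddBelowQ Y).FullSubcategory ⥤ DCoh.DQCoh Y :=
    ObjectProperty.lift _ (Dual3.bddι Y ⋙ ObjectProperty.ι _ ⋙ DCoh.RSheafHom E) fun K => by
      obtain ⟨k, hk⟩ := K.property
      have := hk
      exact Groth.Agent.S1115.result Y E hpc K.obj.obj K.obj.property k
  let h₁ : ∀ M N : DCoh.DQCoh Y, (M ⟶ N) ≃ (M.obj ⟶ N.obj) := fun M N =>
    (ObjectProperty.fullyFaithfulι _).homEquiv
  let e : ∀ (K : (Dual3.IsBddBelowQ Y).FullSubcategory) (M : DCoh.DQCoh Y),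
      (M ⟶ (a ⋙ DCoh.RpushQ f hf).obj K.obj) ≃ (M ⟶ G.obj K) := fun K M =>
    (adj'.homEquiv M K.obj).symm.trans <| (h₁ (L'.obj M) K.obj).trans <|
      (n.app M).symm.homFromEquiv.trans <| ((DCoh.RSheafHomAdj E).homEquiv M.obj K.obj.obj).trans
        (h₁ M (G.obj K)).symm
  let α : Dual3.bddι Y ⋙ a ⋙ DCoh.RpushQ f hf ≅ G :=
    NatIso.ofComponents (fun K => Yoneda.fullyFaithful.preimageIso
      (NatIso.ofComponents (fun M => (e K M.unop).toIso) (fun {M M'} g => by
        ext v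
        change e K M'.unop (g.unop ≫ v) = g.unop ≫ e K M.unop v
        apply ObjectProperty.hom_ext
        change (DCoh.RSheafHomAdj E).homEquiv _ _ (n.hom.app M'.unop ≫
            ((adj'.homEquiv _ K.obj).symm (g.unop ≫ v)).hom) =
          g.unop.hom ≫ (DCoh.RSheafHomAdj E).homEquiv _ _ (n.hom.app M.unop ≫
            ((adj'.homEquiv _ K.obj).symm v).hom)
        rw [Adjunction.homEquiv_naturality_left_symm]
        refine Eq.trans (congrArg _ ?_) (Adjunction.homEquiv_naturality_left _ _ _)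
        exact (reassoc_of% (n.hom.naturality g.unop)) _ |>.symm)))
      (fun {K K'} g => by
        apply Yoneda.fullyFaithful.map_injective
        ext M v
        simp only [Functor.map_comp, Functor.FullyFaithful.preimageIso_hom, Functor.FullyFaithful.map_preimage]
        change e K' M.unop (v ≫ (a ⋙ DCoh.RpushQ f hf).map g.hom) = e K M.unop v ≫ G.map g
        apply ObjectProperty.hom_ext
        change (DCoh.RSheafHomAdj E).homEquiv _ _ (n.hom.app M.unop ≫
            ((adj'.homEquiv _ K'.obj).symm (v ≫ (a ⋙ DCoh.RpushQ f hf).map g.hom)).hom) =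
          (DCoh.RSheafHomAdj E).homEquiv _ _ (n.hom.app M.unop ≫
            ((adj'.homEquiv _ K.obj).symm v).hom) ≫ (DCoh.RSheafHom E).map g.hom.hom
        rw [Adjunction.homEquiv_naturality_right_symm]
        exact Eq.trans (congrArg _ (Category.assoc _ _ _).symm) (Adjunction.homEquiv_naturality_right _ _ _))
  exact ⟨Functor.isoWhiskerRight α (ObjectProperty.ι _)⟩

end Groth.Agent.Dual3RHom.Finite
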