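import Mathlib.CategoryTheory.Adjunction.Basic

/-!
Compatibility of base change maps with units and counits.
-/

set_option autoImplicit false

open CategoryTheory

namespace Groth.Agent.Dual3RHom.Mates

variable {A B A' B' : Type*} [Category A] [Category B] [Category A'] [Category B']
  {F : A ⥤ B} {a : B ⥤ A} {F' : A' ⥤ B'} {a' : B' ⥤ A'} {G : B' ⥤ B} {G' : A' ⥤ A} {L : B ⥤ B'} {L' : A ⥤ A'}
  (adj : F ⊣ a) (adj' : F' ⊣ a') (adjg : L ⊣ G) (adjg' : L' ⊣ G') (e : G' ⋙ F ≅ F' ⋙ G)

/-- `ξ` -/
def xi (M : B') : G'.obj (a'.obj M) ⟶ a.obj (G.obj M) :=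
  (adj.homEquiv _ _) (e.hom.app (a'.obj M) ≫ G.map (adj'.counit.app M))

/-- the push-forward base change -/
def bcP (K : A) : L.obj (F.obj K) ⟶ F'.obj (L'.obj K) :=
  (adjg.homEquiv _ _).symm (F.map (adjg'.unit.app K) ≫ e.hom.app (L'.obj K))

/-- the base change of right adjoints -/
noncomputable def bcM (K : B) (h : IsIso (xi adj adj' e (L.obj K))) : L'.obj (a.obj K) ⟶ a'.obj (L.obj K) :=
  haveI := h
  L'.map (a.map (adjg.unit.app K)) ≫ L'.map (inv (xi adj adj' e (L.obj K))) ≫
    adjg'.counit.app (a'.obj (L.obj K))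

theorem bcM_transpose (K : B) (h : IsIso (xi adj adj' e (L.obj K))) :
    adjg'.unit.app (a.obj K) ≫ G'.map (bcM adj adj' adjg adjg' e K h) ≫ xi adj adj' e (L.obj K) =
      a.map (adjg.unit.app K) := by
  have := h
  unfold bcM
  simp only [Functor.map_comp, Category.assoc]
  erw [Adjunction.unit_naturality_assoc, Adjunction.unit_naturality_assoc,
    Adjunction.right_triangle_components_assoc, IsIso.inv_hom_id, Category.comp_id]

theorem map_xi_counit (M : B') :
    F.map (xi adj adj' e M) ≫ adj.counit.app (G.obj M) = e.hom.app (a'.obj M) ≫ G.map (adj'.counit.app M) :=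
  ((adj.homEquiv_counit _ _ _).symm.trans (Equiv.symm_apply_apply _ _))

theorem counit_compat (K : B) (h : IsIso (xi adj adj' e (L.obj K))) :
    bcP adjg adjg' e (a.obj K) ≫ F'.map (bcM adj adj' adjg adjg' e K h) ≫ adj'.counit.app (L.obj K) =
      L.map (adj.counit.app K) := by
  apply (adjg.homEquiv _ _).injective
  rw [Adjunction.homEquiv_naturality_right]
  unfold bcP
  rw [Equiv.apply_symm_apply, Adjunction.homEquiv_unit, Category.assoc, Functor.map_comp]
  have hn := e.hom.naturality (bcM adj adj' adjg adjg' e K h)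
  simp only [Functor.comp_map] at hn
  rw [← reassoc_of% hn, ← map_xi_counit, ← F.map_comp_assoc, ← F.map_comp_assoc, Category.assoc,
    bcM_transpose]
  erw [adj.counit_naturality]
  exact adjg.unit.naturality (adj.counit.app K)

theorem unit_compat (M : A) (h : IsIso (xi adj adj' e (L.obj (F.obj M))))
    (h' : IsIso (xi adj adj' e (F'.obj (L'.obj M)))) :
    adj'.unit.app (L'.obj M) = L'.map (adj.unit.app M) ≫ bcM adj adj' adjg adjg' e (F.obj M) h ≫
      a'.map (bcP adjg adjg' e M) := by
  apply (adjg'.homEquiv _ _).injective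
  have := h'
  apply (cancel_mono (xi adj adj' e (F'.obj (L'.obj M)))).1
  have hxi : G'.map (adj'.unit.app (L'.obj M)) ≫ xi adj adj' e (F'.obj (L'.obj M)) =
      adj.unit.app (G'.obj (L'.obj M)) ≫ a.map (e.hom.app (L'.obj M)) := by
    unfold xi
    erw [← Adjunction.homEquiv_naturality_left, ← Adjunction.homEquiv_unit]
    refine congrArg _ ?_
    have hn := e.hom.naturality (adj'.unit.app (L'.obj M))
    simp only [Functor.comp_map] at hn
    rw [reassoc_of% hn, ← G.map_comp, adj'.left_triangle_components]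
    simp
  have hnat : G'.map (a'.map (bcP adjg adjg' e M)) ≫ xi adj adj' e (F'.obj (L'.obj M)) =
      xi adj adj' e (L.obj (F.obj M)) ≫ a.map (G.map (bcP adjg adjg' e M)) := by
    unfold xi
    erw [← Adjunction.homEquiv_naturality_left, ← Adjunction.homEquiv_naturality_right]
    refine congrArg _ ?_
    have hn := e.hom.naturality (a'.map (bcP adjg adjg' e M))
    simp only [Functor.comp_map] at hn
    rw [reassoc_of% hn, ← G.map_comp, adj'.counit_naturality, G.map_comp, Category.assoc]
  rw [Adjunction.homEquiv_unit, Adjunction.homEquiv_unit, Category.assoc, hxi]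
  rw [Functor.map_comp, Functor.map_comp]
  simp only [Category.assoc]
  rw [hnat]
  erw [Adjunction.unit_naturality_assoc, reassoc_of% bcM_transpose adj adj' adjg adjg' e (F.obj M) h]
  rw [← a.map_comp]
  have hb : adjg.unit.app (F.obj M) ≫ G.map (bcP adjg adjg' e M) = F.map (adjg'.unit.app M) ≫ e.hom.app (L'.obj M) := by
    unfold bcP
    exact (adjg.homEquiv_unit _ _ _).symm.trans (Equiv.apply_symm_apply _ _)
  rw [hb, a.map_comp]
  erw [Adjunction.unit_naturality_assoc]
  rfl

end Groth.Agent.Dual3RHom.Mates
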