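import Groth.Agent.Dual3RHom.RatSing
import Groth.Agent.S1809
import Groth.Agent.S3675
import Groth.Agent.S6528
import Groth.Agent.KFlat.RPushBase
import Groth.Agent.FlatMor.GenericPts
import Mathlib.CategoryTheory.Abelian.Injective.Extend
import Mathlib.Algebra.Homology.DerivedCategory.HomologySequence

/-!
# Cohen–Macaulay images of rational modifications
-/

set_option autoImplicit false

universe u

open CategoryTheory CategoryTheory.Limits AlgebraicGeometry
open Groth.Agent.KFlat Groth.Agent.KFlat.Pull Groth.Agent.KFlat.WeakKInj Groth.Agent.KFlat.RPush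

attribute [local instance] HasDerivedCategory.standard

noncomputable section

namespace Groth.Agent.Dual3RHom.RatCM

variable {X Y : Scheme.{u}} (f : X ⟶ Y) [DCoh.HasRpush f] [HasInjectiveResolutions X.Modules]

/-- Positive cohomology sheaves of `Rf_* M` are the higher direct images. -/
theorem nonempty_HD_rpush (M : X.Modules) (d i : ℤ) (p : ℕ) (hp : (p : ℤ) + 1 = d + i) :
    Nonempty (DCoh.HD ((DCoh.Rpush f).obj ((DCoh.inD X M)⟦d⟧)) i ≅ (Coh.Rpush f (p + 1)).obj M) := by
  let R := injectiveResolution M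
  let C := R.cochainComplex
  have : C.IsKInjective := CochainComplex.isKInjective_of_injective C 0
  have hι : IsIso (DerivedCategory.Q.map R.ι') := inferInstance
  let e : (DCoh.inD X M)⟦d⟧ ≅ DerivedCategory.Q.obj (C⟦d⟧) :=
    (shiftFunctor (DCoh.D X) d).mapIso ((DerivedCategory.singleFunctorIsoCompQ X.Modules 0).app M ≪≫
      @asIso _ _ _ _ _ hι) ≪≫ ((DerivedCategory.Q.commShiftIso d).app C).symm
  let eC : (pushCx f).obj (C⟦d⟧) ≅ ((pushCx f).obj C)⟦d⟧ :=
    (((Scheme.Modules.pushforward f).mapHomologicalComplex (ComplexShape.up ℤ)).commShiftIso d).app C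
  have : (C⟦d⟧).IsKInjective := inferInstance
  let e₂ : (DCoh.Rpush f).obj ((DCoh.inD X M)⟦d⟧) ≅ DerivedCategory.Q.obj (((pushCx f).obj C)⟦d⟧) :=
    (DCoh.Rpush f).mapIso e ≪≫ (@asIso _ _ _ _ ((toRpush f).app (C⟦d⟧)) (isIso_toRpush f _)).symm ≪≫
      DerivedCategory.Q.mapIso eC
  let F := Scheme.Modules.pushforward f
  let n : ℤ := (p : ℤ) + 1
  let φ₁ : ((pushCx f).obj C).X (n - 1) ≅ ((F.mapHomologicalComplex _).obj R.cocomplex).X p :=
    F.mapIso (R.cochainComplexXIso (n - 1) p (by omega))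
  let φ₂ : ((pushCx f).obj C).X n ≅ ((F.mapHomologicalComplex _).obj R.cocomplex).X (p + 1) :=
    F.mapIso (R.cochainComplexXIso n (p + 1) (by omega))
  let φ₃ : ((pushCx f).obj C).X (n + 1) ≅ ((F.mapHomologicalComplex _).obj R.cocomplex).X (p + 2) :=
    F.mapIso (R.cochainComplexXIso (n + 1) (p + 2) (by omega))
  let ψ : ((pushCx f).obj C).sc' (n - 1) n (n + 1) ≅
      ((F.mapHomologicalComplex _).obj R.cocomplex).sc' p (p + 1) (p + 2) :=
    ShortComplex.isoMk φ₁ φ₂ φ₃
      (by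
        change F.map (R.cochainComplexXIso (n - 1) p (by omega)).hom ≫ F.map (R.cocomplex.d p (p + 1)) =
          F.map (R.cochainComplex.d (n - 1) n) ≫ F.map (R.cochainComplexXIso n (p + 1) (by omega)).hom
        rw [← F.map_comp, ← F.map_comp]
        apply congrArg F.map
        rw [R.cochainComplex_d (n - 1) n p (p + 1) (by omega) (by omega)]
        simp)
      (by
        change F.map (R.cochainComplexXIso n (p + 1) (by omega)).hom ≫ F.map (R.cocomplex.d (p + 1) (p + 2)) =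
          F.map (R.cochainComplex.d n (n + 1)) ≫ F.map (R.cochainComplexXIso (n + 1) (p + 2) (by omega)).hom
        rw [← F.map_comp, ← F.map_comp]
        apply congrArg F.map
        rw [R.cochainComplex_d n (n + 1) (p + 1) (p + 2) (by omega) (by omega)]
        simp)
  exact ⟨(DerivedCategory.homologyFunctor Y.Modules i).mapIso e₂ ≪≫
    (DerivedCategory.homologyFunctorFactors Y.Modules i).app _ ≪≫
    (((HomologicalComplex.homologyFunctor Y.Modules (ComplexShape.up ℤ) 0).shiftIso d i n hp.symm).app ((pushCx f).obj C)) ≪≫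
    ((pushCx f).obj C).homologyIsoSc' (n - 1) n (n + 1) (by simp) (by simp) ≪≫
    ShortComplex.homologyMapIso ψ ≪≫
    (((F.mapHomologicalComplex _).obj R.cocomplex).homologyIsoSc' p (p + 1) (p + 2) (by simp) (by simp)).symm ≪≫
    (R.isoRightDerivedObj F (p + 1)).symm⟩

omit [HasInjectiveResolutions X.Modules] in
/-- A complex with one cohomology sheaf. -/
theorem nonempty_single (K : DCoh.D X) (d : ℤ) (h : ∀ i, i ≠ -d → IsZero (DCoh.HD K i)) :
    Nonempty (K ≅ (DCoh.inD X (DCoh.HD K (-d)))⟦d⟧) := by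
  have : K.IsGE (-d) := (DerivedCategory.isGE_iff K (-d)).2 fun i hi => h i (by omega)
  have : K.IsLE (-d) := (DerivedCategory.isLE_iff K (-d)).2 fun i hi => h i (by omega)
  obtain ⟨M, ⟨e⟩⟩ := DerivedCategory.exists_iso_singleFunctor_obj_of_isGE_of_isLE K (-d)
  let u : DCoh.HD K (-d) ≅ M := (DerivedCategory.homologyFunctor X.Modules (-d)).mapIso e ≪≫
    (DerivedCategory.singleFunctorCompHomologyFunctorIso X.Modules (-d)).app M
  exact ⟨e ≪≫ (((DerivedCategory.singleFunctors X.Modules).shiftIso d (-d) 0 (by omega)).app M).symm ≪≫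
    (shiftFunctor (DCoh.D X) d).mapIso ((DerivedCategory.singleFunctor X.Modules 0).mapIso u.symm)⟩


omit [DCoh.HasRpush f] [HasInjectiveResolutions X.Modules] in
/-- A module with zero stalks vanishes. -/
theorem isZero_of_stalks {M : Y.Modules} (h : ∀ y : Y, Subsingleton (M.presheaf.stalk y)) : IsZero M := by
  rw [IsZero.iff_id_eq_zero]
  ext U s
  exact TopCat.Presheaf.section_ext (⟨M.presheaf, M.isSheaf⟩ : TopCat.Sheaf AddCommGrpCat Y) U _ _
    fun y hy => (h y).elim _ _

omit [HasInjectiveResolutions X.Modules] in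
/-- Direct images do not lower degrees. -/
theorem isZero_HD_rpush [HasInjectiveResolutions X.Modules] (M : X.Modules) (d i : ℤ) (h : d + i < 0) :
    IsZero (DCoh.HD ((DCoh.Rpush f).obj ((DCoh.inD X M)⟦d⟧)) i) := by
  let R := injectiveResolution M
  let C := R.cochainComplex
  have : C.IsKInjective := CochainComplex.isKInjective_of_injective C 0
  have hι : IsIso (DerivedCategory.Q.map R.ι') := inferInstance
  let e : (DCoh.inD X M)⟦d⟧ ≅ DerivedCategory.Q.obj (C⟦d⟧) :=
    (shiftFunctor (DCoh.D X) d).mapIso ((DerivedCategory.singleFunctorIsoCompQ X.Modules 0).app M ≪≫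
      @asIso _ _ _ _ _ hι) ≪≫ ((DerivedCategory.Q.commShiftIso d).app C).symm
  let eC : (pushCx f).obj (C⟦d⟧) ≅ ((pushCx f).obj C)⟦d⟧ :=
    (((Scheme.Modules.pushforward f).mapHomologicalComplex (ComplexShape.up ℤ)).commShiftIso d).app C
  have : (C⟦d⟧).IsKInjective := inferInstance
  let e₂ : (DCoh.Rpush f).obj ((DCoh.inD X M)⟦d⟧) ≅ DerivedCategory.Q.obj (((pushCx f).obj C)⟦d⟧) :=
    (DCoh.Rpush f).mapIso e ≪≫ (@asIso _ _ _ _ ((toRpush f).app (C⟦d⟧)) (isIso_toRpush f _)).symm ≪≫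
      DerivedCategory.Q.mapIso eC
  have hz : IsZero (((pushCx f).obj C).homology (d + i)) :=
    ShortComplex.isZero_homology_of_isZero_X₂ _
      (show IsZero (((pushCx f).obj C).X (d + i)) from
        Functor.map_isZero (Scheme.Modules.pushforward f) (C.isZero_of_isStrictlyGE 0 (d + i) h))
  exact hz.of_iso ((DerivedCategory.homologyFunctor Y.Modules i).mapIso e₂ ≪≫
    (DerivedCategory.homologyFunctorFactors Y.Modules i).app _ ≪≫
    (((HomologicalComplex.homologyFunctor Y.Modules (ComplexShape.up ℤ) 0).shiftIso d i (d + i) rfl).app ((pushCx f).obj C)))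

omit [DCoh.HasRpush f] [HasInjectiveResolutions X.Modules] in
/-- `Rf_* O = O` from the two vanishing conditions. -/
theorem nonempty_rpush_one [QuasiCompact f] [QuasiSeparated f] [DCoh.HasRpush f]
    [HasInjectiveResolutions X.Modules] (hu : IsIso (ClSub.unitToPush f))
    (hac : ∀ p : ℕ, 0 < p → IsZero ((Coh.Rpush f p).obj (Coh.structureModule X))) :
    Nonempty ((DCoh.Rpush f).obj (DerivedCategory.Q.obj (UnitCx.oneCx X)) ≅
      DerivedCategory.Q.obj (UnitCx.oneCx Y)) := by
  let O := Coh.structureModule X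
  have hterms : ∀ m, ((UnitCx.oneCx X).X m).IsQuasicoherent := fun m => by
    by_cases h : m = 0
    · subst h
      exact @QCoh.isQuasicoherent_of_iso _ _ _ (HomologicalComplex.singleObjXSelf (ComplexShape.up ℤ) 0 O).symm
        (ProjTwist.isQuasicoherent_structureModule X)
    · obtain ⟨Z, hZ, hP⟩ := ObjectProperty.ContainsZero.exists_zero (P := QCohCat.isQCoh X)
      exact @QCoh.isQuasicoherent_of_iso _ _ _
        (hZ.iso (HomologicalComplex.isZero_single_obj_X (ComplexShape.up ℤ) 0 O m h)) hP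
  have hT : IsIso ((toRpush f).app (UnitCx.oneCx X)) := by
    refine CohDerLib.QC.isIso_toRpush_of_acyclic f _ hterms fun m i hi => ?_
    by_cases h : m = 0
    · subst h
      exact (hac i (by omega)).of_iso ((Coh.Rpush f i).mapIso (HomologicalComplex.singleObjXSelf (ComplexShape.up ℤ) 0 O))
    · exact Functor.map_isZero _ (HomologicalComplex.isZero_single_obj_X (ComplexShape.up ℤ) 0 O m h)
  exact ⟨(@asIso _ _ _ _ ((toRpush f).app (UnitCx.oneCx X)) hT).symm ≪≫
    DerivedCategory.Q.mapIso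
      ((HomologicalComplex.singleMapHomologicalComplex (Scheme.Modules.pushforward f) (ComplexShape.up ℤ) 0).app O ≪≫
        (HomologicalComplex.single _ (ComplexShape.up ℤ) 0).mapIso (@asIso _ _ _ _ _ hu).symm)⟩

/-- Over an open where `f` is an isomorphism there is nothing in positive degrees. -/
theorem subsingleton_stalk (M : X.Modules) [hM : M.IsQuasicoherent] (V : Y.Opens) [IsIso (f ∣_ V)]
    (d i : ℤ) (h : 0 < d + i) (y : Y) (hy : y ∈ V) :
    Subsingleton ((DCoh.HD ((DCoh.Rpush f).obj ((DCoh.inD X M)⟦d⟧)) i).presheaf.stalk y) := by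
  refine Groth.Agent.S6528.subsingleton_stalk (U := V) ?_ hy
  have := RPush.hasRpush (f ∣_ V)
  let U := f ⁻¹ᵁ V
  have : HasInjectiveResolutions (U : Scheme.{u}).Modules := inferInstance
  let e : (DCoh.restrictD U.ι).obj ((DCoh.inD X M)⟦d⟧) ≅
      (DCoh.inD (U : Scheme.{u}) (M.restrict U.ι))⟦d⟧ :=
    ((DCoh.restrictD U.ι).commShiftIso d).app _ ≪≫ (shiftFunctor _ d).mapIso
      (((Scheme.Modules.restrictFunctor U.ι).mapDerivedCategorySingleFunctor 0).app M)
  obtain ⟨p, hp⟩ : ∃ p : ℕ, (p : ℤ) + 1 = d + i := ⟨(d + i - 1).toNat, by omega⟩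
  obtain ⟨v⟩ := nonempty_HD_rpush (f ∣_ V) (M.restrict U.ι) d i p hp
  have : (M.restrict U.ι).IsQuasicoherent := Scheme.Modules.isQuasicoherent_restrictFunctor U.ι M
  exact (CohBase.PushEdge.isZero_Rpush_of_isAffineHom (f ∣_ V) (M.restrict U.ι) p).of_iso
    (((MapHomology.iso (Scheme.Modules.restrictFunctor V.ι) i).app _).symm ≪≫
      (DerivedCategory.homologyFunctor _ i).mapIso
        ((RPushBase.restrictRpushIso f V).app _ ≪≫ (DCoh.Rpush (f ∣_ V)).mapIso e) ≪≫ v)

/-- Cohen–Macaulayness of the image of a rational modification. -/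
theorem cm_iff [IsNoetherian Y] [IsProper f]
    [∀ (U : Scheme.{u}) (j : U ⟶ Y) [IsOpenImmersion j], PreservesFiniteLimits (Scheme.Modules.restrictFunctor j)]
    [∀ (R : CommRingCat.{u}), PreservesFiniteLimits (tilde.functor R)]
    (V : Y.Opens) (hV : Dense (V : Set Y)) [IsIso (f ∣_ V)]
    (h : DCoh.RpushPreservesQCoh f) [DCoh.HasShriek f h] (d : ℕ)
    (K : DCoh.DQCoh Y) (hK : Dual2.IsDualizingSch Y K.obj)
    (hKX : ∀ i : ℤ, i ≠ -(d : ℤ) → IsZero (DCoh.HD ((DCoh.shriek f h).obj K).obj i))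
    (hu : IsIso (ClSub.unitToPush f))
    (hac : ∀ p : ℕ, 0 < p → IsZero ((Coh.Rpush f p).obj (Coh.structureModule X))) :
    (∀ y : Y, LocCoh.IsCohenMacaulayLocalRing (Y.presheaf.stalk y)) ↔
      ∀ p : ℕ, 0 < p → IsZero ((Coh.Rpush f p).obj (DCoh.HD ((DCoh.shriek f h).obj K).obj (-(d : ℤ)))) := by
  obtain ⟨r⟩ := nonempty_rpush_one f hu hac
  have : IsIso (DCoh.trace f h) := RatSing.isIso_counit f h _ _ r
  let T : (DCoh.Rpush f).obj ((DCoh.shriek f h).obj K).obj ≅ K.obj :=
    asIso ((ObjectProperty.ι DCoh.IsQCohD).map ((DCoh.trace f h).app K))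
  set ω := DCoh.HD ((DCoh.shriek f h).obj K).obj (-(d : ℤ)) with hωdef
  have : ω.IsQuasicoherent := ((DCoh.shriek f h).obj K).property _
  obtain ⟨s⟩ := nonempty_single ((DCoh.shriek f h).obj K).obj (d : ℤ) hKX
  let eK : ∀ i, DCoh.HD K.obj i ≅ DCoh.HD ((DCoh.Rpush f).obj ((DCoh.inD X ω)⟦(d : ℤ)⟧)) i := fun i =>
    (DerivedCategory.homologyFunctor Y.Modules i).mapIso (T.symm ≪≫ (DCoh.Rpush f).mapIso s)
  have hlow : ∀ i : ℤ, i < -(d : ℤ) → IsZero (DCoh.HD K.obj i) := fun i hi =>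
    (isZero_HD_rpush f ω d i (by omega)).of_iso (eK i)
  have hsub : ∀ (M : Y.Modules) (y : Y), IsZero M → Subsingleton (M.presheaf.stalk y) := fun M y hM =>
    AddCommGrpCat.subsingleton_of_isZero
      (Functor.map_isZero (Scheme.Modules.toPresheaf Y ⋙ TopCat.Presheaf.stalkFunctor _ y) hM)
  have hgen : ∀ y : Y, Nontrivial ((DCoh.HD K.obj (-(d : ℤ))).presheaf.stalk y) := fun y => by
    obtain ⟨U, hU, hyU, -⟩ := TopologicalSpace.Opens.isBasis_iff_nbhd.mp Y.isBasis_affineOpens
      (show y ∈ (⊤ : Y.Opens) from trivial)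
    obtain ⟨p, hp⟩ : y ∈ Set.range hU.fromSpec := hU.range_fromSpec.symm ▸ hyU
    haveI := hU.isOpenImmersion_fromSpec
    obtain ⟨ω', hω', ⟨e⟩⟩ := hK Γ(Y, U) hU.fromSpec
    obtain ⟨Q, hQ, hQp⟩ := Ideal.exists_minimalPrimes_le (bot_le : (⊥ : Ideal Γ(Y, U)) ≤ p.1)
    let q : PrimeSpectrum Γ(Y, U) := ⟨Q, hQ.1.1⟩
    have hηV : hU.fromSpec q ∈ V := by
      refine FlatMor.GenericPts.mem_of_dense hV ?_
      rw [FlatMor.GenericPts.closure_mem_irreducibleComponents_iff]
      intro z hz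
      obtain ⟨z', rfl⟩ : z ∈ Set.range hU.fromSpec := hz.mem_open hU.fromSpec.opensRange.2 ⟨q, rfl⟩
      have h' : z' ⤳ q := hU.fromSpec.isOpenEmbedding.isInducing.specializes_iff.1 hz
      have hle : z'.asIdeal ≤ Q := (PrimeSpectrum.le_iff_specializes z' q).2 h'
      have heq : z' = q := PrimeSpectrum.ext (le_antisymm hle (hQ.2 ⟨z'.2, bot_le⟩ hle))
      rw [heq]
    obtain ⟨i, hi⟩ := S3675.exists_not_Z hω' q
    have hi' := (DualCx.SchStalk.chart hU.fromSpec e q i).mpr hi
    have hid : i = -(d : ℤ) := by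
      by_contra hne
      rcases lt_or_gt_of_ne hne with hlt | hgt
      · have := hsub _ (hU.fromSpec q) (hlow i hlt)
        exact false_of_nontrivial_of_subsingleton ((DCoh.HD K.obj i).presheaf.stalk (hU.fromSpec q))
      · have := subsingleton_stalk f ω V d i (by omega) (hU.fromSpec q) hηV
        have hs : Subsingleton ((DCoh.HD K.obj i).presheaf.stalk (hU.fromSpec q)) :=
          @Equiv.subsingleton _ _ (((Scheme.Modules.toPresheaf Y ⋙ TopCat.Presheaf.stalkFunctor _ (hU.fromSpec q)).mapIso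
            (eK i)).addCommGroupIsoToAddEquiv).toEquiv this
        exact false_of_nontrivial_of_subsingleton ((DCoh.HD K.obj i).presheaf.stalk (hU.fromSpec q))
    subst hid
    rw [← hp]
    refine (DualCx.SchStalk.chart hU.fromSpec e p _).mpr fun hZ => hi fun x => ?_
    obtain ⟨s, hs, hx⟩ := hZ x
    exact ⟨s, fun hsq => hs (hQp hsq), hx⟩
  constructor
  · intro hcm p hp
    obtain ⟨p, rfl⟩ : ∃ q, p = q + 1 := ⟨p - 1, by omega⟩
    obtain ⟨v⟩ := nonempty_HD_rpush f ω (d : ℤ) ((p : ℤ) + 1 - d) p (by omega)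
    refine IsZero.of_iso (isZero_of_stalks fun y => ?_) (v.symm ≪≫ (eK _).symm)
    rw [← not_nontrivial_iff_subsingleton]
    intro hn
    obtain ⟨j, -, huniq⟩ := ((Groth.Agent.S1809.result Y K.obj hK).1 y).1 (hcm y)
    have := (huniq _ hn).trans (huniq _ (hgen y)).symm
    omega
  · intro hv y
    refine ((Groth.Agent.S1809.result Y K.obj hK).1 y).2 ⟨-(d : ℤ), hgen y, fun j hj => ?_⟩
    by_contra hne
    have hz : IsZero (DCoh.HD K.obj j) := by
      rcases lt_or_gt_of_ne hne with hlt | hgt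
      · exact hlow j hlt
      · obtain ⟨p, hp⟩ : ∃ p : ℕ, (p : ℤ) + 1 = (d : ℤ) + j := ⟨((d : ℤ) + j - 1).toNat, by omega⟩
        obtain ⟨v⟩ := nonempty_HD_rpush f ω (d : ℤ) j p hp
        exact (hv (p + 1) (by omega)).of_iso (eK j ≪≫ v)
    have := hsub _ y hz
    exact false_of_nontrivial_of_subsingleton ((DCoh.HD K.obj j).presheaf.stalk y)

end Groth.Agent.Dual3RHom.RatCM
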