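import Groth.Agent.Dual3RHom.Finite
import Groth.Agent.S4480
import Groth.Agent.ModifLib.CohVan
import Groth.Agent.ModifLib.Dim
import Groth.Agent.AmpCrit.RelVan
import Groth.Agent.KFlat.SheafDual
import Groth.Prelude.Def_Curv2
import Groth.Prelude.Def_ClSub2
import Mathlib.CategoryTheory.Adjunction.Triple

/-!
# The trace is invertible for modifications with `Rf_* O = O`
-/

set_option autoImplicit false

universe u

open CategoryTheory CategoryTheory.Limits AlgebraicGeometry
open Groth.Agent.KFlat Groth.Agent.KFlat.Pull Groth.Agent.KFlat.WeakKInj Groth.Agent.KFlat.RPush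

attribute [local instance] HasDerivedCategory.standard

noncomputable section

namespace Groth.Agent.Dual3RHom.RatSing

/-- A modification of the spectrum of a normal local ring has the base as global functions. -/
theorem isIso_app (A : Type u) [CommRing A] [IsDomain A] [IsLocalRing A] [IsNoetherianRing A]
    [IsIntegrallyClosed A] {X : Scheme.{u}} (f : X ⟶ Spec (CommRingCat.of A)) [IsProper f] [IsIntegral X]
    (hbir : ∃ U : (Spec (CommRingCat.of A)).Opens, (U : Set (Spec (CommRingCat.of A))).Nonempty ∧ IsIso (f ∣_ U))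
    (V : (Spec (CommRingCat.of A)).Opens) : IsIso (f.app V) := by
  have : IsLocallyNoetherian X := LocallyOfFiniteType.isLocallyNoetherian f
  obtain ⟨hgen, -⟩ := ModifLib.topologicalKrullDim_le f hbir
  obtain ⟨U, hU, hiso⟩ := hbir
  have hη : genericPoint (Spec (CommRingCat.of A)) ∈ U :=
    ((genericPoint_spec _).mem_open_set_iff U.2).2 (by simpa using hU)
  have hξU : genericPoint X ∈ f ⁻¹ᵁ U := by rw [Scheme.Hom.mem_preimage, hgen]; exact hη
  have : IsIso (f.stalkMap (genericPoint X)) :=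
    ((MorphismProperty.isomorphisms CommRingCat.{u}).arrow_mk_iso_iff (morphismRestrictStalkMap f U ⟨_, hξU⟩)).1
      (show IsIso ((f ∣_ U).stalkMap ⟨_, hξU⟩) from inferInstance)
  have hdom : f.base (genericPoint X) ⤳ genericPoint (Spec (CommRingCat.of A)) := specializes_of_eq hgen
  have hsurj : Function.Surjective (CohIII.stalkToFunctionField f (genericPoint _) hdom) := by
    intro x
    obtain ⟨y, rfl⟩ := (ConcreteCategory.bijective_of_isIso (f.stalkMap (genericPoint X))).2 x
    have : IsIso ((Spec (CommRingCat.of A)).presheaf.stalkSpecializes hdom) := by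
      have h' : (Spec (CommRingCat.of A)).presheaf.stalkSpecializes hdom =
          ((Spec (CommRingCat.of A)).presheaf.stalkCongr (Inseparable.of_eq hgen.symm)).hom := rfl
      rw [h']; infer_instance
    obtain ⟨z, rfl⟩ := (ConcreteCategory.bijective_of_isIso
      ((Spec (CommRingCat.of A)).presheaf.stalkSpecializes hdom)).2 y
    exact ⟨z, rfl⟩
  have hy : IsIntegrallyClosed ((Spec (CommRingCat.of A)).presheaf.stalk (IsLocalRing.closedPoint A)) := by
    exact isIntegrallyClosed_of_isLocalization (R := A) (S := (Spec.structureSheaf A).presheaf.stalk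
      (IsLocalRing.closedPoint A)) (IsLocalRing.closedPoint A).asIdeal.primeCompl
      (Ideal.primeCompl_le_nonZeroDivisors _)
  obtain ⟨-, U', hU', hV⟩ := Groth.Agent.S4480.result f hdom (fun x _ => hsurj x) _ hy
  obtain rfl : U' = ⊤ := top_unique fun p _ =>
    (IsLocalRing.specializes_closedPoint (R := A) p).mem_open U'.2 hU'
  exact hV V le_top

/-- `Rf_* O = O` for a rational modification. -/
theorem nonempty_rpush_one (A : Type u) [CommRing A] [IsDomain A] [IsLocalRing A] [IsNoetherianRing A]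
    [IsIntegrallyClosed A] (hdim : ringKrullDim A = 2) (hA : Curv2.IsRationalSing A)
    {X : Scheme.{u}} (f : X ⟶ Spec (CommRingCat.of A)) [IsProper f] [IsIntegral X] (hXn : Pi1.IsNormalScheme X)
    (hbir : ∃ U : (Spec (CommRingCat.of A)).Opens, (U : Set (Spec (CommRingCat.of A))).Nonempty ∧ IsIso (f ∣_ U))
    [DCoh.HasRpush f] :
    Nonempty ((DCoh.Rpush f).obj (DerivedCategory.Q.obj (UnitCx.oneCx X)) ≅
      DerivedCategory.Q.obj (UnitCx.oneCx (Spec (CommRingCat.of A)))) := by
  let O := Coh.structureModule X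
  have hOq : O.IsQuasicoherent := ProjTwist.isQuasicoherent_structureModule X
  have : EnoughInjectives X.Modules := IsGrothendieckAbelian.enoughInjectives
  have hd := ModifLib.topologicalKrullDim_fiber_le_one A hdim f hbir
  have hH : ∀ p : ℕ, Subsingleton (Coh.HH X O (p + 1)) := fun p => by
    rcases p with _ | p
    · exact hA X f inferInstance inferInstance hXn hbir
    · exact ModifLib.subsingleton_HH_of_fiber_le A f 1 (by exact_mod_cast hd) O (p + 2) (by omega)
  have hac : ∀ q : ℕ, IsZero ((Coh.Rpush f (q + 1)).obj O) := fun q =>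
    AmpCrit.RelVan.isZero_rpush_of_cover f O (fun _ : PUnit.{u+1} => ⊤) (fun _ => isAffineOpen_top _)
      (fun _ => ⟨PUnit.unit, trivial⟩) fun _ => by
        have h1 : Subsingleton (CohTop.HU (Coh.toAb O) (q + 1) ⊤) :=
          (CohTop.Basic.HEquivHUTop (Coh.toAb O) (q + 1)).toEquiv.subsingleton_congr.1 (hH q)
        exact (CohTop.Restrict.HUEquivRestr (Coh.toAb O) ⊤ (q + 1)).toEquiv.subsingleton_congr.1 h1
  have hterms : ∀ m, ((UnitCx.oneCx X).X m).IsQuasicoherent := fun m => by
    by_cases h : m = 0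
    · subst h
      exact @QCoh.isQuasicoherent_of_iso _ _ _ (HomologicalComplex.singleObjXSelf (ComplexShape.up ℤ) 0 O).symm hOq
    · obtain ⟨Z, hZ, hP⟩ := ObjectProperty.ContainsZero.exists_zero (P := QCohCat.isQCoh X)
      exact @QCoh.isQuasicoherent_of_iso _ _ _
        (hZ.iso (HomologicalComplex.isZero_single_obj_X (ComplexShape.up ℤ) 0 O m h)) hP
  have hT : IsIso ((toRpush f).app (UnitCx.oneCx X)) := by
    refine CohDerLib.QC.isIso_toRpush_of_acyclic f _ hterms fun m i hi => ?_
    obtain ⟨q, rfl⟩ : ∃ q, i = q + 1 := ⟨i - 1, by omega⟩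
    by_cases h : m = 0
    · subst h
      exact (hac q).of_iso ((Coh.Rpush f (q + 1)).mapIso (HomologicalComplex.singleObjXSelf (ComplexShape.up ℤ) 0 O))
    · exact Functor.map_isZero _ (HomologicalComplex.isZero_single_obj_X (ComplexShape.up ℤ) 0 O m h)
  have hu : IsIso (ClSub.unitToPush f) := by
    rw [Scheme.Modules.Hom.isIso_iff_isIso_app]
    intro V
    have := isIso_app A f hbir V
    rw [ConcreteCategory.isIso_iff_bijective]
    exact ConcreteCategory.bijective_of_isIso (f.app V)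
  exact ⟨(@asIso _ _ _ _ ((toRpush f).app (UnitCx.oneCx X)) hT).symm ≪≫
    DerivedCategory.Q.mapIso
      ((HomologicalComplex.singleMapHomologicalComplex (Scheme.Modules.pushforward f) (ComplexShape.up ℤ) 0).app O ≪≫
        (HomologicalComplex.single _ (ComplexShape.up ℤ) 0).mapIso (@asIso _ _ _ _ _ hu).symm)⟩

/-- If `Rf_* O = O` then the trace is invertible on `D_QCoh`. -/
theorem isIso_counit {X Y : Scheme.{u}} (f : X ⟶ Y) [QuasiCompact f] [QuasiSeparated f] [DCoh.HasRpush f]
    (h : DCoh.RpushPreservesQCoh f) (a : DCoh.DQCoh Y ⥤ DCoh.DQCoh X) (adj : DCoh.RpushQ f h ⊣ a)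
    (r : (DCoh.Rpush f).obj (DerivedCategory.Q.obj (UnitCx.oneCx X)) ≅ DerivedCategory.Q.obj (UnitCx.oneCx Y)) :
    IsIso adj.counit := by
  have := hasLpull f
  let J := (injRes X).obj (UnitCx.oneCx X)
  let eJ : DerivedCategory.Q.obj J ≅ DerivedCategory.Q.obj (UnitCx.oneCx X) := injQIso.app _
  let eK : DerivedCategory.Q.obj (ProjPerfect.fJ f J) ≅ DerivedCategory.Q.obj (UnitCx.oneCx Y) :=
    @asIso _ _ _ _ ((toRpush f).app J) (isIso_toRpush f J) ≪≫ (DCoh.Rpush f).mapIso eJ ≪≫ r
  have hJq : DCoh.IsQCohD (DerivedCategory.Q.obj J) := by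
    refine QCohModel.isQCohD_of_iso eJ.symm (QCohModel.isQCohD_Q_of_terms _ fun m => ?_)
    by_cases h : m = 0
    · subst h
      exact @QCoh.isQuasicoherent_of_iso _ _ _ (HomologicalComplex.singleObjXSelf (ComplexShape.up ℤ) 0 _).symm
        (ProjTwist.isQuasicoherent_structureModule X)
    · obtain ⟨Z, hZ, hP⟩ := ObjectProperty.ContainsZero.exists_zero (P := QCohCat.isQCoh X)
      exact @QCoh.isQuasicoherent_of_iso _ _ _
        (hZ.iso (HomologicalComplex.isZero_single_obj_X (ComplexShape.up ℤ) 0 _ m h)) hP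
  have := LTensor.hasLTensorCx (ProjPerfect.fJ f J)
  have := LTensor.hasLTensorCx J
  have := LTensor.hasLTensorCx (UnitCx.oneCx X)
  have := LTensor.hasLTensorCx (UnitCx.oneCx Y)
  obtain ⟨p⟩ := SheafDual.nonempty_projIso f J hJq
  obtain ⟨c⟩ := StrictDual.nonempty_ltCongr eK
  obtain ⟨d⟩ := StrictDual.nonempty_ltCongr eJ
  obtain ⟨uX⟩ := Finite.nonempty_lt_one X
  obtain ⟨uY⟩ := Finite.nonempty_lt_one Y
  let ι := (DCoh.IsQCohD (X := Y)).ι
  let i₀ : (SheafDual.pullQ f ⋙ DCoh.RpushQ f h) ⋙ ι ≅ 𝟭 _ ⋙ ι :=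
    Functor.isoWhiskerLeft ι (Functor.isoWhiskerLeft (DCoh.Lpull f)
      (Functor.leftUnitor _).symm ≪≫ Functor.isoWhiskerLeft (DCoh.Lpull f) (Functor.isoWhiskerRight (d ≪≫ uX).symm _)) ≪≫
      p.symm ≪≫ Functor.isoWhiskerLeft ι (c ≪≫ uY) ≪≫ Functor.rightUnitor ι ≪≫ (Functor.leftUnitor ι).symm
  let i : SheafDual.pullQ f ⋙ DCoh.RpushQ f h ≅ 𝟭 _ :=
    ((ObjectProperty.fullyFaithfulι (DCoh.IsQCohD (X := Y))).whiskeringRight _).preimageIso i₀
  let t : Adjunction.Triple (SheafDual.pullQ f) (DCoh.RpushQ f h) a :=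
    { adj₁ := SheafDual.pullAdjQ f h, adj₂ := adj }
  exact t.isIso_unit_iff_isIso_counit.1 ((SheafDual.pullAdjQ f h).isIso_unit_of_iso i)

end Groth.Agent.Dual3RHom.RatSing
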