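import Groth.Agent.Dual3RHom.Closed
import Groth.Agent.KFlat.PCNoeth
import Groth.Agent.Props.KilledSub
import Groth.Agent.CycLib.ModStalk
import Groth.Agent.ProperFin.Supp

/-!
Closed immersions reflect quasi-coherence and coherence.
-/

set_option autoImplicit false

universe u

open CategoryTheory CategoryTheory.Limits AlgebraicGeometry Groth.Agent.KFlat

attribute [local instance] HasDerivedCategory.standard

noncomputable section

namespace Groth.Agent.Dual3RHom.Reflect

variable {Z X : Scheme.{u}} (i : Z ⟶ X) [IsClosedImmersion i]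

/-- `i^* i_* M ≅ M`. -/
def counitIso (M : Z.Modules) :
    (Scheme.Modules.pullback i).obj ((Scheme.Modules.pushforward i).obj M) ≅ M :=
  @asIso _ _ _ _ ((Scheme.Modules.pullbackPushforwardAdjunction i).counit.app M)
    (Props.KilledSub.isIso_counit i M)

theorem isQCoh_of_push {M : Z.Modules} (h : Coh.IsQCoh ((Scheme.Modules.pushforward i).obj M)) :
    Coh.IsQCoh M :=
  @Groth.Agent.QCoh.isQuasicoherent_of_iso _ _ _ (counitIso i M)
    (@Groth.Agent.QCoh.isQuasicoherent_pullback _ _ i _ h)

theorem isCoh_of_push {M : Z.Modules} (h : Coh.IsCoh ((Scheme.Modules.pushforward i).obj M)) :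
    Coh.IsCoh M :=
  CohDev.isCoh_of_iso (counitIso i M) (ZClosLib.CohDescent.isCoh_pullback i _ h)

theorem isPseudoCoherentD_M0 [IsLocallyNoetherian X] (m : ℤ) :
    DCoh.IsPseudoCoherentD m (DCoh.toD X (Closed.E0 i)) := by
  have hc : Coh.IsCoh (Closed.M0 i) := CycLib.isCoh_push (Coh.structureModule Z) i (ProperFin.isCoh_structureModule Z)
  have hLE : (DCoh.toD X (Closed.E0 i)).IsLE 0 :=
    DerivedCategory.isLE_Q_obj_iff _ _ |>.2 inferInstance
  refine KFlat.PCNoeth.isPseudoCoherentD_of_isCohD _ (fun j => ?_) 0 m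
  let e : DCoh.HD (DCoh.toD X (Closed.E0 i)) j ≅ (Closed.E0 i).homology j :=
    (DerivedCategory.homologyFunctorFactors X.Modules j).app _
  by_cases h : j = 0
  · subst h
    exact CohDev.isCoh_of_iso (e ≪≫ HomologicalComplex.singleObjHomologySelfIso _ 0 _).symm hc
  · have h0 : IsZero ((Closed.E0 i).homology j) := (HomologicalComplex.exactAt_single_obj
      (ComplexShape.up ℤ) 0 (Closed.M0 i) j h).isZero_homology
    exact CohDev.isCoh_of_isZero (h0.of_iso e)

/-- cohomology of `i_* R Hom(O_Z, K)` -/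
theorem nonempty_HD_iso [Dual3.HasHomO i] [EnoughInjectives X.Modules]
    [DCoh.HasLTensorCx (Closed.E0 i)] [DCoh.HasRSheafHom (Closed.E0 i)]
    (K : DerivedCategory.Plus X.Modules) (j : ℤ) :
    Nonempty ((Scheme.Modules.pushforward i).obj (DCoh.HD ((Dual3.RHomOPlus i).obj K).obj j) ≅
      DCoh.HD ((DCoh.RSheafHom (Closed.E0 i)).obj K.obj) j) := by
  have : PreservesColimitsOfSize.{0, 0} (Scheme.Modules.pushforward i) :=
    (Dual3.homOAdj i).leftAdjoint_preservesColimits
  have : PreservesLimitsOfSize.{0, 0} (Scheme.Modules.pushforward i) :=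
    (Scheme.Modules.pullbackPushforwardAdjunction i).rightAdjoint_preservesLimits
  have : PreservesFiniteColimits (Scheme.Modules.pushforward i) :=
    PreservesColimitsOfSize.preservesFiniteColimits.{0, 0} _
  have : PreservesFiniteLimits (Scheme.Modules.pushforward i) :=
    PreservesLimitsOfSize.preservesFiniteLimits.{0, 0} _
  obtain ⟨e⟩ := Closed.nonempty_iso i (Closed.E0 i)
    ⟨((SingleFunctors.evaluation _ _ 0).mapIso
      (DerivedCategory.singleFunctorsPostcompQIso X.Modules)).app (Closed.M0 i) |>.symm⟩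
  exact ⟨((MapHomology.iso (Scheme.Modules.pushforward i) j).app _).symm ≪≫
    (DerivedCategory.homologyFunctor X.Modules j).mapIso (e.app K)⟩

end Groth.Agent.Dual3RHom.Reflect
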