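import Groth.Agent.Dual3RHom.TildeTensor
import Groth.Agent.KFlat.LTensor
import Groth.Agent.KFlat.NatIsoKProj
import Groth.Agent.KFlat.TildeKFlat
import Groth.Agent.DRing.LTensor
import Groth.Agent.DRing.DerivedAdj
import Groth.Agent.DRing.HomCx
import Groth.Agent.DRing.RHomRep

/-!
`~` is compatible with derived tensor products; the derived tensor-hom adjunction over a ring.
-/

set_option autoImplicit false

universe u

open CategoryTheory CategoryTheory.Limits AlgebraicGeometry MonoidalCategory
open Groth.Agent.KFlat Groth.Agent.DTenLib Groth.Agent.DRing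

attribute [local instance] HasDerivedCategory.standard

noncomputable section

namespace Groth.Agent.Dual3RHom.TildeLT

variable {R : CommRingCat.{u}}

/-- `~` on complexes. -/
abbrev tC : DRing.Cx R ⥤ CochainComplex (Spec (CommRingCat.of R)).Modules ℤ :=
  (tilde.functor R).mapHomologicalComplex (ComplexShape.up ℤ)

instance : PreservesColimitsOfSize.{0, 0} (tilde.functor R) :=
  (tilde.adjunction (R := R)).leftAdjoint_preservesColimits

/-- `(P ⊗ E)~ ≅ P~ ⊗ E~` -/
def cxIso (P E : DRing.Cx R) :
    tC.obj (P ⊗ E) ≅ ((DCoh.tensorCx (X := Spec (CommRingCat.of R))).obj (tC.obj P)).obj (tC.obj E) :=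
  totMapIso (curriedTensor (ModuleCat.{u} R)) (DCoh.tensorBi (X := Spec (CommRingCat.of R))) (tilde.functor R)
    (tilde.functor R) (tilde.functor R) (fun M N => TildeTensor.μIso (R := R) M N)
    (fun g N => TildeTensor.μ_left g N) (fun M _ _ g => TildeTensor.μ_right M g) P E

theorem cxIso_natural {P P' : DRing.Cx R} (f : P ⟶ P') (E : DRing.Cx R) :
    tC.map (f ▷ E) ≫ (cxIso P' E).hom =
      (cxIso P E).hom ≫ ((DCoh.tensorCx (X := Spec (CommRingCat.of R))).map (tC.map f)).app (tC.obj E) :=
  totMapIso_naturality_left (curriedTensor (ModuleCat.{u} R)) (DCoh.tensorBi (X := Spec (CommRingCat.of R))) (tilde.functor R)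
    (tilde.functor R) (tilde.functor R) (fun M N => TildeTensor.μIso (R := R) M N)
    (fun g N => TildeTensor.μ_left g N) (fun M _ _ g => TildeTensor.μ_right M g) f E

variable [PreservesFiniteLimits (tilde.functor R)]

/-- `(M ⊗^L E)~ ≅ M~ ⊗^L E~` naturally in `M`. -/
theorem nonempty_lt_iso (E : DRing.Cx R) [DRing.HasLTensorCx R E] [DCoh.HasLTensorCx (tC.obj E)] :
    Nonempty (DRing.LTensorCx R E ⋙ DCoh.tildeD R ≅ DCoh.tildeD R ⋙ DCoh.LTensorCx (tC.obj E)) := by
  let G₁ := DRing.LTensorCx R E ⋙ DCoh.tildeD R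
  let G₂ := DCoh.tildeD R ⋙ DCoh.LTensorCx (tC.obj E)
  let F : DRing.Cx R ⥤ DCoh.D (Spec (CommRingCat.of R)) := tensorRight E ⋙ tC ⋙ DerivedCategory.Q
  let c := (DRing.tensorCxQ R E).totalLeftDerivedCounit DerivedCategory.Q
    (HomologicalComplex.quasiIso (ModuleCat.{u} R) (ComplexShape.up ℤ))
  let φ := (tilde.functor R).mapDerivedCategoryFactors
  let α₁ : DerivedCategory.Q ⋙ G₁ ⟶ F :=
    (Functor.associator _ _ _).inv ≫ Functor.whiskerRight c (DCoh.tildeD R) ≫ (Functor.associator _ _ _).hom ≫
      Functor.whiskerLeft (tensorRight E) φ.hom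
  let ν : tC ⋙ (DCoh.tensorCx (X := Spec (CommRingCat.of R))).flip.obj (tC.obj E) ≅ tensorRight E ⋙ tC :=
    NatIso.ofComponents (fun P => (cxIso P E).symm) (fun {P P'} f => by
      show _ ≫ (cxIso P' E).inv = (cxIso P E).inv ≫ _
      rw [Iso.eq_inv_comp, ← Category.assoc, Iso.comp_inv_eq]
      exact (cxIso_natural f E).symm)
  let α₂ : DerivedCategory.Q ⋙ G₂ ⟶ F :=
    (Functor.associator _ _ _).inv ≫ Functor.whiskerRight φ.hom (DCoh.LTensorCx (tC.obj E)) ≫
      (Functor.associator _ _ _).hom ≫ Functor.whiskerLeft tC (KFlat.LTensor.toTensor (tC.obj E)) ≫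
      (Functor.associator _ _ _).inv ≫ Functor.whiskerRight ν.hom DerivedCategory.Q ≫ (Functor.associator _ _ _).hom
  refine NatIsoKProj.nonempty_natIso (fun K => ?_) α₁ α₂ (fun P hP => ?_) (fun P hP => ?_)
  · obtain ⟨P, hP, -, e⟩ := DBasic.exists_kproj_iso K
    exact ⟨P, hP, e⟩
  · have hk := DRing.KFlat.isKFlat_of_isKProjective P
    have : IsIso (c.app P) := DRing.LTensor.isIso_toTensor E hk
    simp only [α₁, NatTrans.comp_app, Functor.associator_inv_app, Functor.associator_hom_app,
      Functor.whiskerRight_app, Functor.whiskerLeft_app]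
    infer_instance
  · have hk := TildeKFlat.isKFlat_tilde R P (DRing.KFlat.isKFlat_of_isKProjective P)
    have := KFlat.LTensor.isIso_toTensor (tC.obj E) hk
    simp only [α₂, NatTrans.comp_app, Functor.associator_inv_app, Functor.associator_hom_app,
      Functor.whiskerRight_app, Functor.whiskerLeft_app]
    infer_instance

/-- the tensor-hom adjunction on complexes -/
def cxAdj (P : DRing.Cx R) : tensorRight P ⊣ DRing.homCxFunctor P :=
  Adjunction.mkOfHomEquiv
    { homEquiv := fun Z Y => (homEquivCx Z P Y).symm.symm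
      homEquiv_naturality_left_symm := fun f g => HomCx.uncurry_comp f g
      homEquiv_naturality_right := fun f g => HomCx.curry_post f g }

/-- the derived tensor-hom adjunction -/
theorem nonempty_adj (P : DRing.Cx R) [P.IsKProjective] [DRing.HasLTensorCx R P] [DRing.HasRHomCx P] :
    Nonempty (DRing.LTensorCx R P ⊣ DRing.RHomCx P) := by
  let W := HomologicalComplex.quasiIso (ModuleCat.{u} R) (ComplexShape.up ℤ)
  let G' := DRing.LTensorCx R P
  let F' := DRing.RHomCx P
  let α := (DRing.tensorCxQ R P).totalLeftDerivedCounit DerivedCategory.Q W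
  let β := (DRing.homCxQ P).totalRightDerivedUnit DerivedCategory.Q W
  have hk := DRing.KFlat.isKFlat_of_isKProjective P
  have : ∀ Z, IsIso (α.app Z) := fun Z => DRing.LTensor.isIso_toTensor_of_kflat_right P hk Z
  have : IsIso α := NatIso.isIso_of_isIso_app α
  have hF : W.IsInvertedBy (DRing.homCxQ P) := fun X Y f hf => by
    have : QuasiIso f := hf
    have := HomCx.quasiIso_homCxMap (P := P) f
    exact inferInstanceAs (IsIso (DerivedCategory.Q.map (DRing.homCxMap P f)))
  have : IsIso β := Functor.isIso_of_isRightDerivedFunctor_of_inverts (W := W) F' β hF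
  have h1 : (G' ⋙ F').IsLeftDerivedFunctor ((Functor.associator _ _ _).inv ≫ Functor.whiskerRight α F') W :=
    Functor.isLeftDerivedFunctor_of_inverts _ _
      ((Functor.associator _ _ _).symm ≪≫ Functor.isoWhiskerRight (asIso α) F')
  have h2 : (F' ⋙ G').IsRightDerivedFunctor (Functor.whiskerRight β G' ≫ (Functor.associator _ _ _).hom) W :=
    Functor.isRightDerivedFunctor_of_inverts _ _
      ((Functor.associator _ _ _).symm ≪≫ Functor.isoWhiskerRight (asIso β).symm G')
  exact ⟨Adjunction.derived (cxAdj P) W W α β⟩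

end Groth.Agent.Dual3RHom.TildeLT
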