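import Groth.Agent.LimTop.TensorQC
import Groth.Agent.KFlat.PullTensor
import Groth.Agent.KFlat.TotMapNat
import Mathlib.AlgebraicGeometry.Modules.Tilde
import Mathlib.Algebra.Category.ModuleCat.Monoidal.Basic

/-!
`(M ⊗ N)~ ≅ M~ ⊗ N~`, naturally.
-/

set_option autoImplicit false

universe u

open CategoryTheory CategoryTheory.Limits AlgebraicGeometry MonoidalCategory
open scoped TensorProduct
open Groth.Agent.LimTop Groth.Agent.LimTop.TensorQC Groth.Agent.QCoh Groth.Agent.PullStalk.Sky
open Groth.Agent.KFlat.StalkTensor Groth.Agent.KFlat Groth.Agent.KFlat.PullTensor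

noncomputable section

namespace Groth.Agent.Dual3RHom.TildeTensor

variable {R : CommRingCat.{u}}

/-- the section of `M~` given by an element -/
def sec (M : ModuleCat.{u} R) (m : M) : Γ((tilde.functor R).obj M, ⊤) :=
  ((tilde.toTildeΓNatIso (R := R)).hom.app M).hom m

theorem sec_add (M : ModuleCat.{u} R) (m m' : M) : sec M (m + m') = sec M m + sec M m' :=
  map_add ((tilde.toTildeΓNatIso (R := R)).hom.app M).hom m m'

theorem sec_smul (M : ModuleCat.{u} R) (a : R) (m : M) :
    sec M (a • m) = (Scheme.ΓSpecIso R).inv a • sec M m :=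
  map_smul ((tilde.toTildeΓNatIso (R := R)).hom.app M).hom a m

theorem sec_map {M M' : ModuleCat.{u} R} (g : M ⟶ M') (m : M) :
    ((tilde.functor R).map g).app ⊤ (sec M m) = sec M' (g.hom m) :=
  (congrArg (fun χ => χ.hom m) ((tilde.toTildeΓNatIso (R := R)).hom.naturality g)).symm

theorem sec_bijective (M : ModuleCat.{u} R) : Function.Bijective (sec M) :=
  ((tilde.toTildeΓNatIso (R := R)).app M).toLinearEquiv.bijective

/-- `M ⊗ N → Γ(M~ ⊗ N~)` -/
def pairR (M N : ModuleCat.{u} R) :
    M ⊗[R] N →ₗ[R] (moduleSpecΓFunctor (R := R)).obj (tensM ((tilde.functor R).obj M) ((tilde.functor R).obj N)) :=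
  TensorProduct.lift (LinearMap.mk₂ R
    (fun m n => (show (moduleSpecΓFunctor (R := R)).obj (tensM ((tilde.functor R).obj M) ((tilde.functor R).obj N))
      from tmulSec ⊤ (sec M m) (sec N n)))
    (fun m m' n => (congrArg (fun x => tmulSec ⊤ x (sec N n)) (sec_add M m m')).trans (tmulSec_add_left ⊤ _ _ _))
    (fun a m n => (congrArg (fun x => tmulSec ⊤ x (sec N n)) (sec_smul M a m)).trans (tmulSec_smul_left ⊤ _ _ _))
    (fun m n n' => (congrArg (tmulSec ⊤ (sec M m)) (sec_add N n n')).trans (tmulSec_add_right ⊤ _ _ _))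
    (fun a m n => (congrArg (tmulSec ⊤ (sec M m)) (sec_smul N a n)).trans (tmulSec_smul_right ⊤ _ _ _)))

theorem bijective_secMap {X : Scheme.{u}} (F G : X.Modules) [F.IsQuasicoherent] [G.IsQuasicoherent]
    {U : X.Opens} (hU : IsAffineOpen U) : Function.Bijective (secMap F G U) := by
  have h := isStalkwiseLoc_secMap F G hU
  refine ⟨(injective_iff_map_eq_zero _).mpr fun q hq => ?_, surjective_of_stalkwise h⟩
  obtain ⟨n, hn⟩ := exists_pow_smul_eq_zero_of_res h (r := (1 : Γ(X, U))) (q := q)
    (by rw [hq]; exact map_zero _)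
  rwa [one_pow, one_smul] at hn

theorem bijective_pairR (M N : ModuleCat.{u} R) : Function.Bijective (pairR M N) := by
  let F := (tilde.functor R).obj M
  let G := (tilde.functor R).obj N
  have : F.IsQuasicoherent := inferInstanceAs ((tilde M).IsQuasicoherent)
  have : G.IsQuasicoherent := inferInstanceAs ((tilde N).IsQuasicoherent)
  let eM : M ≃ Γ(F, ⊤) := Equiv.ofBijective _ (sec_bijective M)
  let eN : N ≃ Γ(G, ⊤) := Equiv.ofBijective _ (sec_bijective N)
  have hM : ∀ (a : R) (s : Γ(F, ⊤)), eM.symm ((Scheme.ΓSpecIso R).inv a • s) = a • eM.symm s := fun a s =>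
    eM.injective ((Equiv.apply_symm_apply eM _).trans (((sec_smul M a _).trans (congrArg _ (Equiv.apply_symm_apply eM s))).symm))
  have hN : ∀ (a : R) (s : Γ(G, ⊤)), eN.symm ((Scheme.ΓSpecIso R).inv a • s) = a • eN.symm s := fun a s =>
    eN.injective ((Equiv.apply_symm_apply eN _).trans (((sec_smul N a _).trans (congrArg _ (Equiv.apply_symm_apply eN s))).symm))
  have hMa : ∀ s t : Γ(F, ⊤), eM.symm (s + t) = eM.symm s + eM.symm t := fun s t =>
    eM.injective ((Equiv.apply_symm_apply eM _).trans (((sec_add M _ _).trans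
      (congrArg₂ (· + ·) (Equiv.apply_symm_apply eM s) (Equiv.apply_symm_apply eM t))).symm))
  have hNa : ∀ s t : Γ(G, ⊤), eN.symm (s + t) = eN.symm s + eN.symm t := fun s t =>
    eN.injective ((Equiv.apply_symm_apply eN _).trans (((sec_add N _ _).trans
      (congrArg₂ (· + ·) (Equiv.apply_symm_apply eN s) (Equiv.apply_symm_apply eN t))).symm))
  have hι : Function.Surjective (Scheme.ΓSpecIso R).inv.hom := fun r =>
    ⟨(Scheme.ΓSpecIso R).hom r, by simp⟩
  let ψ : Γ(F, ⊤) ⊗[Γ(Spec R, ⊤)] Γ(G, ⊤) →+ M ⊗[R] N := TensorProduct.liftAddHom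
    (AddMonoidHom.mk' (fun s => AddMonoidHom.mk' (fun t => eM.symm s ⊗ₜ[R] eN.symm t)
        (fun t₁ t₂ => by rw [hNa]; exact TensorProduct.tmul_add _ _ _))
      (fun s₁ s₂ => by ext t; exact (congrArg (· ⊗ₜ[R] eN.symm t) (hMa s₁ s₂)).trans (TensorProduct.add_tmul _ _ _)))
    (fun r s t => by
      obtain ⟨a, rfl⟩ := hι r
      show eM.symm (_ • s) ⊗ₜ[R] eN.symm t = eM.symm s ⊗ₜ[R] eN.symm (_ • t)
      rw [hM, hN]
      exact TensorProduct.smul_tmul _ _ _)
  let e := LinearEquiv.ofBijective (secMap F G ⊤) (bijective_secMap F G (isAffineOpen_top _))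
  have h1 : ∀ x, ψ (e.symm (pairR M N x)) = x := fun x => by
    induction x using TensorProduct.induction_on with
    | zero => exact (congrArg (fun y => ψ (e.symm y)) (map_zero _)).trans ((congrArg ψ (map_zero e.symm)).trans (map_zero ψ))
    | tmul m n =>
      have : e.symm (pairR M N (m ⊗ₜ n)) = eM m ⊗ₜ eN n := e.symm_apply_eq.mpr rfl
      rw [this]
      show eM.symm (eM m) ⊗ₜ[R] eN.symm (eN n) = _
      rw [Equiv.symm_apply_apply, Equiv.symm_apply_apply]
    | add x y hx hy =>
      refine ((congrArg (fun y => ψ (e.symm y)) (map_add (pairR M N) x y)).trans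
        ((congrArg ψ (map_add e.symm _ _)).trans (map_add ψ _ _))).trans ?_
      rw [hx, hy]
  have h2 : ∀ w, pairR M N (ψ w) = secMap F G ⊤ w := fun w => by
    induction w using TensorProduct.induction_on with
    | zero => exact (congrArg _ (map_zero ψ)).trans ((map_zero _).trans (map_zero (secMap F G ⊤)).symm)
    | tmul s t =>
      show tmulSec ⊤ (eM (eM.symm s)) (eN (eN.symm t)) = tmulSec ⊤ s t
      rw [Equiv.apply_symm_apply, Equiv.apply_symm_apply]
    | add x y hx hy =>
      exact (congrArg _ (map_add ψ x y)).trans ((map_add _ _ _).trans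
        ((congrArg₂ (· + ·) hx hy).trans (map_add (secMap F G ⊤) x y).symm))
  refine ⟨Function.LeftInverse.injective (g := fun z => ψ (e.symm z)) h1, fun z => ?_⟩
  obtain ⟨w, hw⟩ := (bijective_secMap F G (isAffineOpen_top _)).2 z
  exact ⟨ψ w, (h2 w).trans hw⟩

/-- `pairR` as a morphism -/
def pairHom (M N : ModuleCat.{u} R) :
    M ⊗ N ⟶ (moduleSpecΓFunctor (R := R)).obj (tensM ((tilde.functor R).obj M) ((tilde.functor R).obj N)) :=
  ModuleCat.ofHom (X := M ⊗[R] N)
    (Y := (moduleSpecΓFunctor (R := R)).obj (tensM ((tilde.functor R).obj M) ((tilde.functor R).obj N))) (pairR M N)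

/-- the comparison map -/
def μ (M N : ModuleCat.{u} R) :
    (tilde.functor R).obj (M ⊗ N) ⟶
      ((DCoh.tensorBi (X := Spec R)).obj ((tilde.functor R).obj M)).obj ((tilde.functor R).obj N) :=
  ((tilde.adjunction (R := R)).homEquiv _ _).symm (pairHom M N)

theorem isIso_μ (M N : ModuleCat.{u} R) : IsIso (μ M N) := by
  have : ((tilde.functor R).obj M).IsQuasicoherent := inferInstanceAs ((tilde M).IsQuasicoherent)
  have : ((tilde.functor R).obj N).IsQuasicoherent := inferInstanceAs ((tilde N).IsQuasicoherent)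
  have := isQuasicoherent_tensM ((tilde.functor R).obj M) ((tilde.functor R).obj N)
  have h1 := Scheme.Modules.isIso_fromTildeΓ_of_isQuasicoherent
    (tensM ((tilde.functor R).obj M) ((tilde.functor R).obj N))
  have h2 : IsIso (pairHom M N) :=
    (ConcreteCategory.isIso_iff_bijective _).2 (bijective_pairR M N)
  unfold μ
  rw [Adjunction.homEquiv_counit]
  exact IsIso.comp_isIso' (@Functor.map_isIso _ _ _ _ _ _ (tilde.functor R) (pairHom M N) h2) h1

/-- the comparison isomorphism -/
def μIso (M N : ModuleCat.{u} R) := @asIso _ _ _ _ (μ M N) (isIso_μ M N)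

theorem μ_left {M M' : ModuleCat.{u} R} (g : M ⟶ M') (N : ModuleCat.{u} R) :
    (tilde.functor R).map (((curriedTensor (ModuleCat.{u} R)).map g).app N) ≫ (μIso M' N).hom =
      (μIso M N).hom ≫ ((DCoh.tensorBi (X := Spec R)).map ((tilde.functor R).map g)).app ((tilde.functor R).obj N) := by
  change (tilde.functor R).map _ ≫ ((tilde.adjunction (R := R)).homEquiv _ _).symm _ =
    ((tilde.adjunction (R := R)).homEquiv _ _).symm _ ≫ _
  rw [← Adjunction.homEquiv_naturality_left_symm, ← Adjunction.homEquiv_naturality_right_symm]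
  refine congrArg _ (ModuleCat.hom_ext (TensorProduct.ext' fun m n => ?_))
  have h := tensMap_tmulSec ((tilde.functor R).map g) (𝟙 ((tilde.functor R).obj N)) ⊤ (sec M m) (sec N n)
  rw [tensMap_id_right] at h
  exact ((h.trans (congrArg (fun x => tmulSec ⊤ x (sec N n)) (sec_map g m))).symm :)

theorem μ_right (M : ModuleCat.{u} R) {N N' : ModuleCat.{u} R} (g : N ⟶ N') :
    (tilde.functor R).map (((curriedTensor (ModuleCat.{u} R)).obj M).map g) ≫ (μIso M N').hom =
      (μIso M N).hom ≫ ((DCoh.tensorBi (X := Spec R)).obj ((tilde.functor R).obj M)).map ((tilde.functor R).map g) := by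
  change (tilde.functor R).map _ ≫ ((tilde.adjunction (R := R)).homEquiv _ _).symm _ =
    ((tilde.adjunction (R := R)).homEquiv _ _).symm _ ≫ _
  rw [← Adjunction.homEquiv_naturality_left_symm, ← Adjunction.homEquiv_naturality_right_symm]
  refine congrArg _ (ModuleCat.hom_ext (TensorProduct.ext' fun m n => ?_))
  have h := tensMap_tmulSec (𝟙 ((tilde.functor R).obj M)) ((tilde.functor R).map g) ⊤ (sec M m) (sec N n)
  rw [tensMap_id_left] at h
  exact ((h.trans (congrArg (tmulSec ⊤ (sec M m)) (sec_map g n))).symm :)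

end Groth.Agent.Dual3RHom.TildeTensor
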